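import Groth.Agent.PicU24.Cocycle
import Groth.Agent.RamSam24.Para
import Groth.Agent.H23.CocycleMod
import Groth.Agent.InvUfdLib.Local

/-!
# Invertible modules on a punctured spectrum as cocycles of units
-/

set_option autoImplicit false
set_option backward.isDefEq.respectTransparency false
set_option backward.isDefEq.respectTransparency.types false
set_option linter.style.haveILetI false
universe u

open CategoryTheory AlgebraicGeometry IsLocalRing TopologicalSpace
open Groth.Agent.AModX Groth.Agent.InvX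

namespace Groth.Agent.PicU24

noncomputable section

variable (R : Type u) [CommRing R] [IsLocalRing R]

attribute [local instance] RamSam24.secAlg

/-- The open of the punctured spectrum where an element is invertible. -/
abbrev Vo (g : R) : (FEt.puncturedSpec R).toScheme.Opens := (FEt.puncturedSpec R).ι ⁻¹ᵁ RamSam24.bOpen R g

theorem bOpen_le {g : R} (hg : g ∈ maximalIdeal R) : RamSam24.bOpen R g ≤ FEt.puncturedSpec R := by
  intro y hy (hyc : y = closedPoint R)
  subst hyc
  exact hy hg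

theorem image_Vo {g : R} (hg : g ∈ maximalIdeal R) :
    (FEt.puncturedSpec R).ι ''ᵁ Vo R g = RamSam24.bOpen R g := by
  show (FEt.puncturedSpec R).ι ''ᵁ (FEt.puncturedSpec R).ι ⁻¹ᵁ (RamSam24.bOpen R g) = _
  rw [Scheme.Hom.image_preimage_eq_opensRange_inf, Scheme.Opens.opensRange_ι]
  exact inf_eq_right.2 (bOpen_le R hg)

theorem Vo_mul (g h : R) : Vo R (g * h) = Vo R g ⊓ Vo R h :=
  congrArg (fun o => (FEt.puncturedSpec R).ι ⁻¹ᵁ o) (show RamSam24.bOpen R (g * h) = RamSam24.bOpen R g ⊓ RamSam24.bOpen R h from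
    PrimeSpectrum.basicOpen_mul _ _)

theorem image_Vo_inf {g h : R} (hg : g ∈ maximalIdeal R) :
    (FEt.puncturedSpec R).ι ''ᵁ (Vo R g ⊓ Vo R h) = RamSam24.bOpen R (g * h) := by
  rw [← Vo_mul, image_Vo R (Ideal.mul_mem_right _ _ hg)]

variable {R}

/-- The identification of a localization with functions on a basic open. -/
def toSec {g : R} {W : (FEt.puncturedSpec R).toScheme.Opens}
    (hW : (FEt.puncturedSpec R).ι ''ᵁ W = RamSam24.bOpen R g) : Ov g →+* Γ((FEt.puncturedSpec R).toScheme, W) :=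
  IsLocalization.Away.lift g (g := RamSam24.rho R W) (RamSam24.rho_facts hW).1

theorem toSec_algebraMap {g : R} {W : (FEt.puncturedSpec R).toScheme.Opens}
    (hW : (FEt.puncturedSpec R).ι ''ᵁ W = RamSam24.bOpen R g) (a : R) :
    toSec hW (algebraMap R (Ov g) a) = RamSam24.rho R W a :=
  IsLocalization.Away.lift_eq g _ a

theorem toSec_bijective {g : R} {W : (FEt.puncturedSpec R).toScheme.Opens}
    (hW : (FEt.puncturedSpec R).ι ''ᵁ W = RamSam24.bOpen R g) : Function.Bijective (toSec hW) := by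
  obtain ⟨hu, hsurj, hinj⟩ := RamSam24.rho_facts hW
  refine ⟨(injective_iff_map_eq_zero _).2 fun x hx => ?_, fun y => ?_⟩
  · obtain ⟨a, n, ha⟩ := exists_rep g x
    have h1 := congrArg (toSec hW) ha
    rw [map_mul, hx, zero_mul, toSec_algebraMap, ← map_zero (RamSam24.rho R W)] at h1
    obtain ⟨m, hm⟩ := hinj _ _ h1.symm
    refine (unit_pow g n).mul_left_eq_zero.1 ?_
    rw [ha, ← map_zero (algebraMap R (Ov g)), algebraMap_eq_iff]
    exact ⟨m, hm⟩
  · obtain ⟨a, n, ha⟩ := hsurj y
    obtain ⟨u, hu'⟩ := unit_pow g n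
    refine ⟨algebraMap R (Ov g) a * (u⁻¹ : (Ov g)ˣ), (hu.pow n).mul_left_injective ?_⟩
    show toSec hW _ * RamSam24.rho R W g ^ n = y * RamSam24.rho R W g ^ n
    rw [ha, ← map_pow (RamSam24.rho R W), ← toSec_algebraMap hW (g ^ n), ← map_mul, map_pow, ← hu', mul_assoc,
      Units.inv_mul, mul_one, toSec_algebraMap]

theorem toSec_res {g h : R} {W W' : (FEt.puncturedSpec R).toScheme.Opens}
    (hW : (FEt.puncturedSpec R).ι ''ᵁ W = RamSam24.bOpen R g)
    (hW' : (FEt.puncturedSpec R).ι ''ᵁ W' = RamSam24.bOpen R h) (hle : W' ≤ W) (hd : g ∣ h) (x : Ov g) :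
    toSec hW' (res g h hd x) = resR hle (toSec hW x) := by
  have := ext_ov (p := (toSec hW').comp (res g h hd)) (q := (resR hle).comp (toSec hW)) fun a => by
    simp only [RingHom.comp_apply, res_algebraMap, toSec_algebraMap, RamSam24.resR_rho]
  exact RingHom.congr_fun this x

variable {K : Type u}

theorem exists_mem_Vo {f : K → R} (hf : IsCover f) (x : (FEt.puncturedSpec R).toScheme) : ∃ k, x ∈ Vo R (f k) := by
  obtain ⟨k, hk⟩ := hf.cov x.1 (show x.1 ≠ closedPoint R from x.2)
  exact ⟨k, hk⟩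

variable [IsNoetherianRing R]

/-- An invertible module has frames on a finite cover by basic opens. -/
theorem exists_frames {L : (FEt.puncturedSpec R).toScheme.Modules} (hL : PicF.IsInvertible L) :
    ∃ (K : Type u) (_ : Fintype K) (f : K → R) (_ : IsCover f) (e : ∀ k, Γ(L, Vo R (f k))),
      ∀ k, IsFrame (e k) := by
  classical
  haveI : NoetherianSpace (Spec (CommRingCat.of R)) := inferInstanceAs (NoetherianSpace (PrimeSpectrum R))
  haveI : NoetherianSpace (FEt.puncturedSpec R).toScheme :=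
    ((FEt.puncturedSpec R).ι.isOpenEmbedding.toIsInducing).noetherianSpace
  let I : Type u := {g : R // g ∈ maximalIdeal R ∧ ∃ e : Γ(L, Vo R g), IsFrame e}
  have hcov : ∀ x, ∃ i : I, x ∈ Vo R i.1 := by
    intro x
    obtain ⟨V, hxV, e, he⟩ := exists_frame hL x
    obtain ⟨_, ⟨_, ⟨f, rfl⟩, rfl⟩, hxf, hfV⟩ := PrimeSpectrum.isBasis_basic_opens.exists_subset_of_mem_open
      (show x.1 ∈ (((FEt.puncturedSpec R).ι ''ᵁ V) : (Spec (CommRingCat.of R)).Opens).1 from ⟨x, hxV, rfl⟩)
      ((FEt.puncturedSpec R).ι ''ᵁ V).isOpen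
    have hle : Vo R f ≤ V := fun y hy => by
      obtain ⟨z, hz, hzy⟩ := hfV hy
      rwa [Subtype.ext hzy] at hz
    refine ⟨⟨f, ?_, AModX.res L hle e, he.res hle⟩, hxf⟩
    by_contra hfm
    obtain ⟨z, -, hz⟩ := hfV (show closedPoint R ∈ PrimeSpectrum.basicOpen f from hfm)
    exact z.2 hz
  have hcU : IsCompact (Set.univ : Set (FEt.puncturedSpec R).toScheme) := NoetherianSpace.isCompact _
  obtain ⟨T, hT⟩ := hcU.elim_finite_subcover (fun i : I => (Vo R i.1 : Set (FEt.puncturedSpec R).toScheme))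
    (fun i => (Vo R i.1).isOpen) fun x _ => Set.mem_iUnion.2 (hcov x)
  let K : Type u := ↥T
  let f : K → R := fun k => k.1.1
  have hm : ∀ k, f k ∈ maximalIdeal R := fun k => k.1.2.1
  have hf : IsCover f := ⟨hm, fun p hp => by
    obtain ⟨i, hiT, hi⟩ := Set.mem_iUnion₂.1 (hT (Set.mem_univ (⟨p, hp⟩ : (FEt.puncturedSpec R).toScheme)))
    exact ⟨⟨i, hiT⟩, hi⟩⟩
  choose e he using fun k : K => k.1.2.2
  exact ⟨K, inferInstance, f, hf, e, he⟩

/-- The transition functions of frames form a cocycle. -/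
theorem exists_cocycle {L : (FEt.puncturedSpec R).toScheme.Modules} {K : Type u} {f : K → R}
    (hm : ∀ k, f k ∈ maximalIdeal R) (e : ∀ k, Γ(L, Vo R (f k))) (he : ∀ k, IsFrame (e k)) :
    ∃ t : ∀ k l, Ov (f k * f l), IsCocycle f t ∧ ∀ k l,
      AModX.res L (inf_le_left : Vo R (f k) ⊓ Vo R (f l) ≤ _) (e k) =
        toSec (image_Vo_inf R (h := f l) (hm k)) (t k l) • AModX.res L inf_le_right (e l) := by
  classical
  let τ : ∀ k l, Ov (f k * f l) ≃+* Γ((FEt.puncturedSpec R).toScheme, Vo R (f k) ⊓ Vo R (f l)) := fun k l =>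
    RingEquiv.ofBijective (toSec (image_Vo_inf R (hm k))) (toSec_bijective _)
  have hu : ∀ k l, ∃ s : Γ((FEt.puncturedSpec R).toScheme, Vo R (f k) ⊓ Vo R (f l)), IsUnit s ∧
      AModX.res L (inf_le_left : Vo R (f k) ⊓ Vo R (f l) ≤ Vo R (f k)) (e k) =
        s • AModX.res L (inf_le_right : Vo R (f k) ⊓ Vo R (f l) ≤ Vo R (f l)) (e l) := fun k l => by
    have h1 := (he k).res (inf_le_left : Vo R (f k) ⊓ Vo R (f l) ≤ Vo R (f k))
    have h2 := (he l).res (inf_le_right : Vo R (f k) ⊓ Vo R (f l) ≤ Vo R (f l))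
    exact InvUfdLib.exists_unit_of_frames h1 h2
  choose s hsu hs using hu
  let t : ∀ k l, Ov (f k * f l) := fun k l => (τ k l).symm (s k l)
  have hts : ∀ k l, toSec (image_Vo_inf R (hm k)) (t k l) = s k l := fun k l => (τ k l).apply_symm_apply (s k l)
  have ht : IsCocycle f t := by
    refine ⟨fun k l => (hsu k l).map (τ k l).symm.toRingHom, fun k l m => ?_⟩
    let W := Vo R (f k) ⊓ Vo R (f l) ⊓ Vo R (f m)
    have hW : (FEt.puncturedSpec R).ι ''ᵁ W = RamSam24.bOpen R (f k * f l * f m) := by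
      show (FEt.puncturedSpec R).ι ''ᵁ (Vo R (f k) ⊓ Vo R (f l) ⊓ Vo R (f m)) = _
      rw [← Vo_mul, ← Vo_mul, image_Vo R (Ideal.mul_mem_right _ _ (Ideal.mul_mem_right _ _ (hm k)))]
    have hkl : W ≤ Vo R (f k) ⊓ Vo R (f l) := inf_le_left
    have hlm : W ≤ Vo R (f l) ⊓ Vo R (f m) := le_inf (inf_le_left.trans inf_le_right) inf_le_right
    have hkm : W ≤ Vo R (f k) ⊓ Vo R (f m) := le_inf (inf_le_left.trans inf_le_left) inf_le_right
    refine (toSec_bijective hW).1 ?_
    rw [map_mul, toSec_res (image_Vo_inf R (hm k)) hW hkl, toSec_res (image_Vo_inf R (hm l)) hW hlm,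
      toSec_res (image_Vo_inf R (hm k)) hW hkm, hts, hts, hts]
    refine (he m).coord_unique (inf_le_right : W ≤ Vo R (f m)) ?_
    have h1 := congrArg (AModX.res L hkl) (hs k l)
    have h2 := congrArg (AModX.res L hlm) (hs l m)
    have h3 := congrArg (AModX.res L hkm) (hs k m)
    simp only [res_smul, AModX.res_res] at h1 h2 h3
    rw [mul_smul, ← h2, ← h1, ← h3]
  exact ⟨t, ht, fun k l => by rw [hts]; exact hs k l⟩

/-- The Picard group of the punctured spectrum is trivial when every cocycle is a coboundary. -/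
theorem picTrivial_of_triv
    (h : ∀ (K : Type u) [Fintype K] (f : K → R), IsCover f → ∀ t, IsCocycle f t → Triv f t) :
    ParaF.PicTrivial (FEt.puncturedSpec R : Scheme.{u}) := by
  classical
  intro L hL
  obtain ⟨K, _, f, hf, e, he⟩ := exists_frames hL
  have hm := hf.mem
  obtain ⟨t, ht, hte⟩ := exists_cocycle hm e he
  obtain ⟨a, ha, hau⟩ := h K f hf t ht
  have hglue : ∀ k l : K,
      AModX.res L inf_le_left (toSec (image_Vo R (hm k)) (a k) • e k) =
        AModX.res L (inf_le_right : Vo R (f k) ⊓ Vo R (f l) ≤ Vo R (f l)) (toSec (image_Vo R (hm l)) (a l) • e l) := by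
    intro k l
    have h1 := congrArg (toSec (image_Vo_inf R (h := f l) (hm k))) (ha k l)
    rw [map_mul] at h1
    change toSec _ (res _ _ _ (a l)) = toSec _ (res _ _ _ (a k)) * _ at h1
    rw [toSec_res (image_Vo R (hm l)) _ inf_le_right, toSec_res (image_Vo R (hm k)) _ inf_le_left] at h1
    rw [res_smul, res_smul, hte k l, ← mul_smul, h1]
  obtain ⟨s', hs', -⟩ := existsUnique_glue (M := L) (V := ⊤) (fun k : K => Vo R (f k)) (fun _ => le_top)
    (fun p _ => exists_mem_Vo hf p) (fun k => toSec (image_Vo R (hm k)) (a k) • e k) hglue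
  exact InvUfdLib.nonempty_iso_of_frame (InvUfdLib.isFrame_of_cover (fun k : K => Vo R (f k)) (fun _ => le_top)
    (fun x _ => exists_mem_Vo hf x) s' fun k => hs' k ▸ (he k).isUnit_smul ((hau k).map _))

/-- With trivial Picard group of the punctured spectrum every cocycle is a coboundary. -/
theorem triv_of_picTrivial (h : ParaF.PicTrivial (FEt.puncturedSpec R : Scheme.{u})) {f : K → R}
    (hf : IsCover f) {t : ∀ k l, Ov (f k * f l)} (ht : IsCocycle f t) : Triv f t := by
  classical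
  have hm := hf.mem
  let g : ∀ k l, Γ((FEt.puncturedSpec R).toScheme, Vo R (f k) ⊓ Vo R (f l)) := fun k l => toSec (image_Vo_inf R (hm k)) (t k l)
  let c : H23.CocycleMod.Cocycle fun k => Vo R (f k) :=
    { g := fun k l => ((ht.unit k l).map (toSec (image_Vo_inf R (h := f l) (hm k)))).unit
      trans := fun k l m W hk hl hm' => by
        simp only [IsUnit.unit_spec]
        let W₀ := Vo R (f k) ⊓ Vo R (f l) ⊓ Vo R (f m)
        have hW : (FEt.puncturedSpec R).ι ''ᵁ W₀ = RamSam24.bOpen R (f k * f l * f m) := by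
          show (FEt.puncturedSpec R).ι ''ᵁ (Vo R (f k) ⊓ Vo R (f l) ⊓ Vo R (f m)) = _
          rw [← Vo_mul, ← Vo_mul, image_Vo R (Ideal.mul_mem_right _ _ (Ideal.mul_mem_right _ _ (hm k)))]
        have hkl : W₀ ≤ Vo R (f k) ⊓ Vo R (f l) := inf_le_left
        have hlm : W₀ ≤ Vo R (f l) ⊓ Vo R (f m) := le_inf (inf_le_left.trans inf_le_right) inf_le_right
        have hkm : W₀ ≤ Vo R (f k) ⊓ Vo R (f m) := le_inf (inf_le_left.trans inf_le_left) inf_le_right
        have h1 := congrArg (resR (le_inf (le_inf hk hl) hm' : W ≤ W₀)) (congrArg (toSec hW) (ht.trans k l m))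
        rw [map_mul, toSec_res (image_Vo_inf R (hm k)) hW hkl, toSec_res (image_Vo_inf R (hm l)) hW hlm,
          toSec_res (image_Vo_inf R (hm k)) hW hkm, map_mul, resR_resR, resR_resR, resR_resR] at h1
        rw [← h1, mul_comm] }
  have hsup : (⨆ k, Vo R (f k)) = ⊤ := top_le_iff.1 fun x _ => Opens.mem_iSup.2 (exists_mem_Vo hf x)
  obtain ⟨φ⟩ := h _ (H23.CocycleMod.isInvertible c hsup)
  obtain ⟨G, hG⟩ : ∃ G : Γ(H23.CocycleMod.mod c, ⊤), IsFrame G := by
    refine ⟨φ.inv.app ⊤ (1 : Γ((FEt.puncturedSpec R).toScheme, ⊤)), fun W hW => ?_⟩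
    have hb : Function.Bijective (φ.inv.app W) :=
      (ConcreteCategory.isIso_iff_bijective _).1 (Scheme.Modules.Hom.isIso_iff_isIso_app.1 inferInstance W)
    have e' : (fun r : Γ((FEt.puncturedSpec R).toScheme, W) => r • AModX.res (H23.CocycleMod.mod c) hW
          (φ.inv.app ⊤ (1 : Γ((FEt.puncturedSpec R).toScheme, ⊤)))) =
        φ.inv.app W ∘ fun r : Γ((FEt.puncturedSpec R).toScheme, W) =>
          r • AModX.res (Coh.structureModule _) hW (1 : Γ((FEt.puncturedSpec R).toScheme, ⊤)) := funext fun r => by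
      rw [Function.comp_apply, Scheme.Modules.Hom.app_smul, app_res]
    exact (congrArg Function.Bijective e').mpr (hb.comp (InvUfdLib.isFrame_one W hW))
  have hc := fun k => InvUfdLib.exists_unit_of_frames (hG.res (le_top : Vo R (f k) ≤ ⊤))
    (H23.CocycleMod.isFrame_frame c k)
  choose r hru hr using hc
  choose a ha using fun k => (toSec_bijective (image_Vo R (hm k))).2 (r k)
  refine ⟨a, fun k l => (toSec_bijective (image_Vo_inf R (hm k))).1 ?_, fun k => ?_⟩
  · rw [map_mul]
    change toSec _ (res _ _ _ (a l)) = toSec _ (res _ _ _ (a k)) * _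
    rw [toSec_res (image_Vo R (hm l)) _ inf_le_right, toSec_res (image_Vo R (hm k)) _ inf_le_left, ha, ha]
    refine (H23.CocycleMod.isFrame_frame c l).coord_unique (inf_le_right : Vo R (f k) ⊓ Vo R (f l) ≤ _) ?_
    have h1 := congrArg (AModX.res _ (inf_le_left : Vo R (f k) ⊓ Vo R (f l) ≤ Vo R (f k))) (hr k)
    have h2 := congrArg (AModX.res _ (inf_le_right : Vo R (f k) ⊓ Vo R (f l) ≤ Vo R (f l))) (hr l)
    have h3 : AModX.res _ inf_le_left (H23.CocycleMod.frame c k) =
        toSec (image_Vo_inf R (h := f l) (hm k)) (t k l) • AModX.res _ inf_le_right (H23.CocycleMod.frame c l) :=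
      H23.CocycleMod.res_frame c k l
    simp only [res_smul, AModX.res_res] at h1 h2
    rw [← h2, mul_smul, ← h3, ← h1]
  · have hu := (ha k).symm ▸ hru k
    obtain ⟨v, hv⟩ := hu.exists_right_inv
    obtain ⟨w, rfl⟩ := (toSec_bijective (image_Vo R (hm k))).2 v
    exact IsUnit.of_mul_eq_one w ((toSec_bijective (image_Vo R (hm k))).1 (by rw [map_mul, hv, map_one]))

end

end Groth.Agent.PicU24
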