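import Groth.Agent.PicU24.Flat
import Groth.Agent.PicU24.Bridge
import Groth.Agent.RamSam24.Loc

/-!
# The punctured spectrum of a flat local algebra with trivial Picard group of the punctured closed fibre
-/

set_option autoImplicit false
set_option linter.style.haveILetI false
universe u

open IsLocalRing

namespace Groth.Agent.PicU24

theorem isCover_of_surjective {B C : Type u} [CommRing B] [CommRing C] [IsLocalRing B] [IsLocalRing C]
    (φ : B →+* C) (hφ : Function.Surjective φ) {K : Type u} {f : K → B} (hf : IsCover f) :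
    IsCover fun k => φ (f k) :=
  haveI : IsLocalHom φ := IsLocalHom.of_surjective _ hφ
  isCover_push φ (fun P hP => PrimeSpectrum.ext (le_antisymm (le_maximalIdeal P.isPrime.ne_top) (by
    show maximalIdeal _ ≤ _
    rw [← IsLocalRing.map_maximalIdeal_of_surjective φ hφ]
    exact Ideal.map_le_iff_le_comap.2 hP))) (fun _ => rfl) hf

/-- A flat local algebra modulo the extension of an ideal is deeper than the quotient by that ideal. -/
theorem exists_quotient_map {B C : Type u} [CommRing B] [CommRing C] [IsLocalRing B] [IsLocalRing C]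
    [IsNoetherianRing B] [IsNoetherianRing C] [Algebra B C] [IsLocalHom (algebraMap B C)] [Module.Flat B C]
    (J : Ideal B) [IsLocalRing (B ⧸ J)] {J' : Ideal C} [IsLocalRing (C ⧸ J')] (hJ : J' = J.map (algebraMap B C)) :
    ∃ q : B ⧸ J →+* C ⧸ J', q.comp (Ideal.Quotient.mk J) = (Ideal.Quotient.mk J').comp (algebraMap B C) ∧
      LocCoh.depth (B ⧸ J) (B ⧸ J) ≤ LocCoh.depth (C ⧸ J') (C ⧸ J') := by
  subst hJ
  refine ⟨Ideal.quotientMap _ (algebraMap B C) Ideal.le_comap_map, RingHom.ext fun _ => rfl, ?_⟩
  refine RamSam24.depth_le_of_flat _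
    ((RamSam24.flat_quot_iff_quotientMap (C := C) J).1 ((NFlat6.flat_quot_iff _ C).mpr inferInstance)) ⟨fun a ha => ?_⟩
  obtain ⟨a, rfl⟩ := Ideal.Quotient.mk_surjective a
  by_contra h
  have h1 : a ∈ maximalIdeal B := (mem_maximalIdeal _).2 fun hu => h (hu.map _)
  refine (mem_maximalIdeal _).1 ?_ ha
  rw [← IsLocalRing.map_maximalIdeal_of_surjective (Ideal.Quotient.mk _) Ideal.Quotient.mk_surjective]
  exact Ideal.mem_map_of_mem _ (map_nonunit (algebraMap B C) a h1)

variable {A B : Type u} [CommRing A] [CommRing B] [IsLocalRing A] [IsLocalRing B]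
  [IsNoetherianRing A] [IsNoetherianRing B] [Algebra A B] [IsLocalHom (algebraMap A B)] [Module.Flat A B]
  [IsLocalRing (B ⧸ (maximalIdeal A).map (algebraMap A B))]

theorem triv_of_fibre_of_algebra {C : Type u} [CommRing C] [Algebra B C] [Algebra A C] [IsScalarTower A B C]
    [IsLocalRing C] [IsNoetherianRing C] [IsAdicComplete (maximalIdeal C) C] [IsLocalHom (algebraMap B C)]
    [Module.FaithfullyFlat B C] (hmax : (maximalIdeal B).map (algebraMap B C) = maximalIdeal C)
    (hd : (3 : ℕ∞) ≤ LocCoh.depth (B ⧸ (maximalIdeal A).map (algebraMap A B)) (B ⧸ (maximalIdeal A).map (algebraMap A B)))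
    {K : Type u} [Fintype K] {f : K → B} (hf : IsCover f) {T : ∀ k l, Ov (f k * f l)} (hT : IsCocycle f T)
    (h0 : Triv (fun k => Ideal.Quotient.mk ((maximalIdeal A).map (algebraMap A B)) (f k))
      (push (Ideal.Quotient.mk ((maximalIdeal A).map (algebraMap A B))) _ (fun _ => rfl) T)) : Triv f T := by
  classical
  haveI : Module.Flat A C := Module.Flat.trans A B C
  haveI : IsLocalHom (algebraMap A C) := by
    rw [IsScalarTower.algebraMap_eq A B C]; infer_instance
  have hmap : (maximalIdeal A).map (algebraMap A C) = ((maximalIdeal A).map (algebraMap A B)).map (algebraMap B C) := by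
    rw [Ideal.map_map, ← IsScalarTower.algebraMap_eq]
  haveI : Nontrivial (C ⧸ (maximalIdeal A).map (algebraMap A C)) :=
    Ideal.Quotient.nontrivial_iff.2 (map_ne_top le_rfl)
  haveI : IsLocalRing (C ⧸ (maximalIdeal A).map (algebraMap A C)) :=
    .of_surjective' (Ideal.Quotient.mk _) Ideal.Quotient.mk_surjective
  obtain ⟨q, hqc, hdC'⟩ := exists_quotient_map (C := C) _ hmap
  have hdC : (3 : ℕ∞) ≤ LocCoh.depth (C ⧸ (maximalIdeal A).map (algebraMap A C))
      (C ⧸ (maximalIdeal A).map (algebraMap A C)) := le_trans hd hdC'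
  haveI : Nontrivial (C ⧸ (⊥ : Ideal A).map (algebraMap A C)) :=
    Ideal.Quotient.nontrivial_iff.2 (map_ne_top bot_le)
  haveI : IsLocalRing (C ⧸ (⊥ : Ideal A).map (algebraMap A C)) :=
    .of_surjective' (Ideal.Quotient.mk _) Ideal.Quotient.mk_surjective
  have hd2 : (2 : ℕ∞) ≤ LocCoh.depth C C := by
    have h1 := le_depth_quotient (B := C) (⊥ : Ideal A) bot_le hdC
    rw [RamSam24.depth_eq_of_ringEquiv ((Ideal.quotEquivOfEq (Ideal.map_bot (f := algebraMap A C))).trans
      (RingEquiv.quotientBot C))] at h1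
    exact le_trans (by norm_num) h1
  let g : K → C := fun k => algebraMap B C (f k)
  have hg : IsCover g := isCover_push (algebraMap B C) (fun P hP => PrimeSpectrum.ext
    (le_antisymm (le_maximalIdeal P.isPrime.ne_top) (by
      show maximalIdeal C ≤ _
      rw [← hmax]
      exact Ideal.map_le_iff_le_comap.2 hP))) (fun _ => rfl) hf
  refine triv_of_flat (C := C) hd2 (g := g) (fun _ => rfl) hg ?_
  refine triv_of_fibre_complete hdC hg (isCocycle_push _ _ hT) ?_
  obtain ⟨a, ha, hu⟩ := h0
  refine ⟨pushF q _ (f := fun k => Ideal.Quotient.mk ((maximalIdeal A).map (algebraMap A B)) (f k)) (fun k => RingHom.congr_fun hqc (f k)) a,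
    ?_, fun k => (hu k).map _⟩
  have h2 := isSect_push q (g := fun k => Ideal.Quotient.mk ((maximalIdeal A).map (algebraMap A C)) (g k))
    (fun k => RingHom.congr_fun hqc (f k)) ha
  convert! h2 using 1
  funext k l
  exact (mv_mv _ _ _ _ _ _ _ _).trans ((mv_congr hqc.symm _ _ _ _).trans (mv_mv _ _ _ _ _ _ _ _).symm)


/-- Cocycles trivial on the closed fibre are trivial. -/
theorem triv_of_fibre
    (hd : (3 : ℕ∞) ≤ LocCoh.depth (B ⧸ (maximalIdeal A).map (algebraMap A B)) (B ⧸ (maximalIdeal A).map (algebraMap A B)))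
    {K : Type u} [Fintype K] {f : K → B} (hf : IsCover f) {T : ∀ k l, Ov (f k * f l)} (hT : IsCocycle f T)
    (h0 : Triv (fun k => Ideal.Quotient.mk ((maximalIdeal A).map (algebraMap A B)) (f k))
      (push (Ideal.Quotient.mk ((maximalIdeal A).map (algebraMap A B))) _ (fun _ => rfl) T)) : Triv f T := by
  classical
  let C := AdicCompletion (maximalIdeal B) B
  haveI : IsNoetherianRing C := LC.Canon.isNoetherianRing_completion (R := B)
  haveI : IsAdicComplete (maximalIdeal C) C := CILib.isAdicComplete_adicCompletion B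
  haveI : IsLocalHom (algebraMap B C) := AdicCompletion.algebraMap_isLocalHom_of_fg (IsNoetherian.noetherian _)
  haveI : Module.Flat B C := AdicCompletion.flat_of_isNoetherian _
  haveI : Module.FaithfullyFlat B C := Module.FaithfullyFlat.of_flat_of_isLocalHom
  exact triv_of_fibre_of_algebra (C := AdicCompletion (maximalIdeal B) B)
    (AdicCompletion.maximalIdeal_eq_map (R := B)).symm hd hf hT h0

/-- The punctured spectrum has trivial Picard group when the punctured closed fibre does. -/
theorem picTrivial_of_fibre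
    (hd : (3 : ℕ∞) ≤ LocCoh.depth (B ⧸ (maximalIdeal A).map (algebraMap A B)) (B ⧸ (maximalIdeal A).map (algebraMap A B)))
    (h0 : ParaF.PicTrivial (FEt.puncturedSpec (B ⧸ (maximalIdeal A).map (algebraMap A B)) : AlgebraicGeometry.Scheme.{u})) :
    ParaF.PicTrivial (FEt.puncturedSpec B : AlgebraicGeometry.Scheme.{u}) :=
  picTrivial_of_triv fun _ _ _ hf _ hT => triv_of_fibre hd hf hT
    (triv_of_picTrivial h0 (isCover_of_surjective _ Ideal.Quotient.mk_surjective hf) (isCocycle_push _ _ hT))

end Groth.Agent.PicU24
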