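import Groth.Agent.PicU24.Bridge
import Groth.Agent.InvX.Pullback

/-!
# Restriction of an invertible module to the punctured spectrum of another local ring
-/

set_option autoImplicit false
set_option backward.isDefEq.respectTransparency false
set_option backward.isDefEq.respectTransparency.types false
set_option linter.style.haveILetI false
universe u

open CategoryTheory AlgebraicGeometry IsLocalRing TopologicalSpace
open Groth.Agent.AModX Groth.Agent.InvX

namespace Groth.Agent.PicU24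

noncomputable section

/-- A trivialized module has a global frame. -/
theorem exists_global_frame {X : Scheme.{u}} {M : X.Modules} (φ : M ≅ Coh.structureModule X) :
    ∃ G : Γ(M, ⊤), IsFrame G := by
  refine ⟨φ.inv.app ⊤ (1 : Γ(X, ⊤)), fun W h => ?_⟩
  have hb : Function.Bijective (φ.inv.app W) :=
    (ConcreteCategory.isIso_iff_bijective _).1 (Scheme.Modules.Hom.isIso_iff_isIso_app.1 inferInstance W)
  have e' : (fun r : Γ(X, W) => r • AModX.res M h (φ.inv.app ⊤ (1 : Γ(X, ⊤)))) =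
      φ.inv.app W ∘ fun r : Γ(X, W) => r • AModX.res (Coh.structureModule X) h (1 : Γ(X, ⊤)) := funext fun r => by
    rw [Function.comp_apply, Scheme.Modules.Hom.app_smul, app_res]
  exact (congrArg Function.Bijective e').mpr (hb.comp (InvUfdLib.isFrame_one W h))

theorem pullElt_res {X X' : Scheme.{u}} (r : X' ⟶ X) {M : X.Modules} {U V : X.Opens} (h : V ≤ U) (s : Γ(M, U)) :
    pullElt r (AModX.res M h s) = AModX.res _ (r.preimage_mono h) (pullElt r s) :=
  app_res ((Scheme.Modules.pullbackPushforwardAdjunction r).unit.app M) h s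

theorem pullElt_smul {X X' : Scheme.{u}} (r : X' ⟶ X) {M : X.Modules} {U : X.Opens} (c : Γ(X, U)) (s : Γ(M, U)) :
    pullElt r (c • s) = (r.app U c) • pullElt r s :=
  Scheme.Modules.Hom.app_smul ((Scheme.Modules.pullbackPushforwardAdjunction r).unit.app M) c s

theorem rho_eq_appLE (R : Type u) [CommRing R] [IsLocalRing R] (W : (FEt.puncturedSpec R).toScheme.Opens) (x : R) :
    RamSam24.rho R W x = (FEt.puncturedSpec R).ι.appLE ⊤ W (fun _ _ => trivial)
      ((Scheme.ΓSpecIso (CommRingCat.of R)).inv x) := by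
  rw [Scheme.Opens.ι_appLE]
  rfl

variable {B C : Type u} [CommRing B] [IsLocalRing B] [CommRing C] [IsLocalRing C] (φ : B →+* C)
  (ρ : (FEt.puncturedSpec C).toScheme ⟶ (FEt.puncturedSpec B).toScheme)
  (hρ : ρ ≫ (FEt.puncturedSpec B).ι = (FEt.puncturedSpec C).ι ≫ Spec.map (CommRingCat.ofHom φ))

include hρ

theorem preimage_Vo (g : B) : ρ ⁻¹ᵁ Vo B g = Vo C (φ g) := by
  show ρ ⁻¹ᵁ ((FEt.puncturedSpec B).ι ⁻¹ᵁ RamSam24.bOpen B g) = (FEt.puncturedSpec C).ι ⁻¹ᵁ RamSam24.bOpen C (φ g)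
  rw [← Scheme.Hom.comp_preimage, hρ, Scheme.Hom.comp_preimage]
  rfl

theorem appLE_rho {W : (FEt.puncturedSpec B).toScheme.Opens} {W' : (FEt.puncturedSpec C).toScheme.Opens}
    (h : W' ≤ ρ ⁻¹ᵁ W) (b : B) : ρ.appLE W W' h (RamSam24.rho B W b) = RamSam24.rho C W' (φ b) := by
  rw [rho_eq_appLE, rho_eq_appLE]
  let y := (Scheme.ΓSpecIso (CommRingCat.of B)).inv b
  have e : (Scheme.ΓSpecIso (CommRingCat.of C)).inv (φ b) = (Spec.map (CommRingCat.ofHom φ)).appTop y :=
    ConcreteCategory.congr_hom (Scheme.ΓSpecIso_inv_naturality (CommRingCat.ofHom φ)) b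
  have h1 := ConcreteCategory.congr_hom
    (Scheme.Hom.appLE_comp_appLE ρ (FEt.puncturedSpec B).ι ⊤ W W' (fun _ _ => trivial) h) y
  have h2 := ConcreteCategory.congr_hom
    (Scheme.Hom.appLE_comp_appLE (FEt.puncturedSpec C).ι (Spec.map (CommRingCat.ofHom φ)) ⊤ ⊤ W'
      (fun _ _ => trivial) (fun _ _ => trivial)) y
  rw [e, Scheme.Hom.appTop, Scheme.Hom.app_eq_appLE]
  refine (h1.trans ?_).trans h2.symm
  simp only [hρ]

theorem appLE_toSec {g : B} {h : C} {W : (FEt.puncturedSpec B).toScheme.Opens}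
    {W' : (FEt.puncturedSpec C).toScheme.Opens} (hW : (FEt.puncturedSpec B).ι ''ᵁ W = RamSam24.bOpen B g)
    (hW' : (FEt.puncturedSpec C).ι ''ᵁ W' = RamSam24.bOpen C h) (hle : W' ≤ ρ ⁻¹ᵁ W) (hd : φ g ∣ h) (x : Ov g) :
    ρ.appLE W W' hle (toSec hW x) = toSec hW' (mv φ g h hd x) := by
  have := ext_ov (p := ((ρ.appLE W W' hle).hom).comp (toSec hW)) (q := (toSec hW').comp (mv φ g h hd)) fun a => by
    simp only [RingHom.comp_apply, toSec_algebraMap, mv_algebraMap]
    exact appLE_rho φ ρ hρ hle a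
  exact RingHom.congr_fun this x

variable [IsNoetherianRing B] [IsLocalHom φ]

/-- The transition units of a module with trivial restriction become a coboundary. -/
theorem triv_push_of_pullback {L : (FEt.puncturedSpec B).toScheme.Modules}
    (θ : (Scheme.Modules.pullback ρ).obj L ≅ Coh.structureModule _)
    {K : Type u} {f : K → B} (hf : IsCover f) (e : ∀ k, Γ(L, Vo B (f k))) (he : ∀ k, IsFrame (e k))
    {t : ∀ k l, Ov (f k * f l)} (hte : ∀ k l, AModX.res L (inf_le_left : Vo B (f k) ⊓ Vo B (f l) ≤ _) (e k) =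
      toSec (image_Vo_inf B (h := f l) (hf.mem k)) (t k l) • AModX.res L inf_le_right (e l)) :
    Triv (fun k => φ (f k)) (push φ _ (fun _ => rfl) t) := by
  classical
  have hm : ∀ k, φ (f k) ∈ maximalIdeal C := fun k => map_nonunit φ (f k) (hf.mem k)
  obtain ⟨G, hG⟩ := exists_global_frame θ
  have hle : ∀ k, Vo C (φ (f k)) ≤ ρ ⁻¹ᵁ Vo B (f k) := fun k => (preimage_Vo φ ρ hρ (f k)).ge
  let E : ∀ k, Γ((Scheme.Modules.pullback ρ).obj L, Vo C (φ (f k))) := fun k => AModX.res ((Scheme.Modules.pullback ρ).obj L) (hle k) (pullElt ρ (e k))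
  have hE : ∀ k, IsFrame (E k) := fun k => (isFrame_pullElt ρ (he k)).res (hle k)
  have hc : ∀ k, ∃ r : Γ((FEt.puncturedSpec C).toScheme, Vo C (φ (f k))), IsUnit r ∧
      AModX.res ((Scheme.Modules.pullback ρ).obj L) (le_top : Vo C (φ (f k)) ≤ ⊤) G = r • E k := fun k => by
    have h1 := hG.res (le_top : Vo C (φ (f k)) ≤ ⊤)
    exact InvUfdLib.exists_unit_of_frames h1 (hE k)
  choose r hru hr using hc
  choose a ha using fun k => (toSec_bijective (image_Vo C (hm k))).2 (r k)
  refine ⟨a, fun k l => (toSec_bijective (image_Vo_inf C (hm k))).1 ?_, fun k => ?_⟩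
  · rw [map_mul]
    change toSec _ (res _ _ _ (a l)) = toSec _ (res _ _ _ (a k)) * _
    rw [toSec_res (image_Vo C (hm l)) _ inf_le_right, toSec_res (image_Vo C (hm k)) _ inf_le_left, ha, ha]
    have hWW : Vo C (φ (f k)) ⊓ Vo C (φ (f l)) ≤ ρ ⁻¹ᵁ (Vo B (f k) ⊓ Vo B (f l)) :=
      fun z hz => ⟨hle k hz.1, hle l hz.2⟩
    have hA := appLE_toSec φ ρ hρ (image_Vo_inf B (h := f l) (hf.mem k)) (image_Vo_inf C (h := φ (f l)) (hm k)) hWW
      (dL φ (fun _ => rfl) k l) (t k l)
    change resR inf_le_right (r l) = resR inf_le_left (r k) *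
      toSec (image_Vo_inf C (h := φ (f l)) (hm k)) (mv φ _ _ (dL φ (fun _ => rfl) k l) (t k l))
    rw [← hA]
    refine (hE l).coord_unique (inf_le_right : Vo C (φ (f k)) ⊓ Vo C (φ (f l)) ≤ _) ?_
    have h1 := congrArg (AModX.res ((Scheme.Modules.pullback ρ).obj L) (inf_le_left : Vo C (φ (f k)) ⊓ Vo C (φ (f l)) ≤ _)) (hr k)
    have h2 := congrArg (AModX.res ((Scheme.Modules.pullback ρ).obj L) (inf_le_right : Vo C (φ (f k)) ⊓ Vo C (φ (f l)) ≤ _)) (hr l)
    have h3 := congrArg (AModX.res ((Scheme.Modules.pullback ρ).obj L) hWW) (congrArg (pullElt ρ) (hte k l))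
    rw [pullElt_smul, pullElt_res, pullElt_res] at h3
    simp only [E, res_smul, AModX.res_res] at h1 h2 h3 ⊢
    rw [mul_smul]
    refine h2.symm.trans (h1.trans ?_)
    congr 1
  · have hu := (ha k).symm ▸ hru k
    obtain ⟨v, hv⟩ := hu.exists_right_inv
    obtain ⟨w, rfl⟩ := (toSec_bijective (image_Vo C (hm k))).2 v
    exact IsUnit.of_mul_eq_one w ((toSec_bijective (image_Vo C (hm k))).1 (by rw [map_mul, hv, map_one]))

omit hρ

/-- A module whose transition units are a coboundary is trivial. -/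
theorem nonempty_iso_of_triv {R : Type u} [CommRing R] [IsLocalRing R] {L : (FEt.puncturedSpec R).toScheme.Modules}
    {K : Type u} {f : K → R} (hf : IsCover f) (e : ∀ k, Γ(L, Vo R (f k))) (he : ∀ k, IsFrame (e k))
    {t : ∀ k l, Ov (f k * f l)} (hte : ∀ k l, AModX.res L (inf_le_left : Vo R (f k) ⊓ Vo R (f l) ≤ _) (e k) =
      toSec (image_Vo_inf R (h := f l) (hf.mem k)) (t k l) • AModX.res L inf_le_right (e l))
    (h : Triv f t) : Nonempty (L ≅ Coh.structureModule _) := by
  classical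
  have hm := hf.mem
  obtain ⟨a, ha, hau⟩ := h
  have hglue : ∀ k l : K,
      AModX.res L inf_le_left (toSec (image_Vo R (hm k)) (a k) • e k) =
        AModX.res L (inf_le_right : Vo R (f k) ⊓ Vo R (f l) ≤ Vo R (f l)) (toSec (image_Vo R (hm l)) (a l) • e l) := by
    intro k l
    have h1 := congrArg (toSec (image_Vo_inf R (h := f l) (hm k))) (ha k l)
    rw [map_mul] at h1
    change toSec _ (res _ _ _ (a l)) = toSec _ (res _ _ _ (a k)) * _ at h1
    rw [toSec_res (image_Vo R (hm l)) _ inf_le_right, toSec_res (image_Vo R (hm k)) _ inf_le_left] at h1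
    rw [res_smul, res_smul, hte k l, ← mul_smul, h1]
  obtain ⟨s', hs', -⟩ := existsUnique_glue (M := L) (V := ⊤) (fun k : K => Vo R (f k)) (fun _ => le_top)
    (fun p _ => exists_mem_Vo hf p) (fun k => toSec (image_Vo R (hm k)) (a k) • e k) hglue
  exact InvUfdLib.nonempty_iso_of_frame (InvUfdLib.isFrame_of_cover (fun k : K => Vo R (f k)) (fun _ => le_top)
    (fun x _ => exists_mem_Vo hf x) s' fun k => hs' k ▸ (he k).isUnit_smul ((hau k).map _))


end

end Groth.Agent.PicU24
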