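import Groth.Agent.PicU24.Cocycle
import Groth.Agent.RelCodim6.Depth

/-!
# Sections of an invertible cocycle and their zero loci
-/

set_option autoImplicit false
set_option linter.style.haveILetI false
universe u

open IsLocalRing

namespace Groth.Agent.PicU24

variable {B C : Type u} [CommRing B] [CommRing C] {K : Type u}

theorem exists_pow_mul_eq_zero_of_r₂ {f : K → B} {k l : K} {x : Ov (f l)} (hx : r₂ f k l x = 0) :
    ∃ n : ℕ, algebraMap B (Ov (f l)) (f k) ^ n * x = 0 := by
  refine exists_pow_mul_eq_zero_of_res (dvd_mul_right _ _) ?_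
  have := congrArg (res (f k * f l) (f l * f k) ⟨1, by ring⟩) hx
  rwa [res_res, map_zero] at this

/-- A fraction on a smaller basic open extends after multiplication by a power. -/
theorem exists_extend {f : K → B} (k l : K) (c : Ov (f k * f l)) :
    ∃ M : ℕ, ∀ N, M ≤ N → ∃ b : Ov (f l), r₂ f k l b = algebraMap B (Ov (f k * f l)) (f k ^ N) * c := by
  obtain ⟨A, M, e⟩ := exists_rep _ c
  obtain ⟨u, hu⟩ := unit_pow (f l) M
  refine ⟨M, fun N hN => ?_⟩
  obtain ⟨r, rfl⟩ := Nat.exists_eq_add_of_le hN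
  refine ⟨algebraMap B (Ov (f l)) (f k ^ r * A) * (u⁻¹ : (Ov (f l))ˣ), (unit_pow (f k * f l) M).mul_left_injective ?_⟩
  show _ * _ = _ * _
  have h0 : r₂ f k l (algebraMap B (Ov (f l)) (f l)) = algebraMap B (Ov (f k * f l)) (f l) := res_algebraMap _ _ _ _
  have h1 : r₂ f k l (algebraMap B (Ov (f l)) (f k ^ r * A) * (u⁻¹ : (Ov (f l))ˣ)) *
      algebraMap B (Ov (f k * f l)) (f l) ^ M = algebraMap B (Ov (f k * f l)) (f k ^ r * A) := by
    rw [← h0, ← map_pow, ← map_mul, mul_assoc, ← hu, Units.inv_mul, mul_one]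
    exact res_algebraMap _ _ _ _
  simp only [map_mul, map_pow, pow_add, mul_pow] at h1 e ⊢
  linear_combination algebraMap B (Ov (f k * f l)) (f k) ^ M * h1 -
    algebraMap B (Ov (f k * f l)) (f k) ^ r * algebraMap B (Ov (f k * f l)) (f k) ^ M * e

theorem isUnit_of_isUnit_r₂_self {f : K → B} {k : K} {x : Ov (f k)} (h : IsUnit (r₂ f k k x)) : IsUnit x := by
  have hu : IsUnit (algebraMap B (Ov (f k)) (f k * f k)) := by
    rw [map_mul]; exact (IsLocalization.Away.algebraMap_isUnit _).mul (IsLocalization.Away.algebraMap_isUnit _)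
  let inv : Ov (f k * f k) →+* Ov (f k) := IsLocalization.Away.lift (f k * f k) hu
  have h2 : inv.comp (r₂ f k k) = RingHom.id _ := ext_ov fun a => by simp [inv]
  have h3 := h.map inv
  rwa [show inv (r₂ f k k x) = x from RingHom.congr_fun h2 x] at h3

theorem isSect_smul {f : K → B} {t : ∀ k l, Ov (f k * f l)} {a : ∀ k, Ov (f k)} (ha : IsSect f t a) (x : B) :
    IsSect f t fun k => algebraMap B (Ov (f k)) x * a k := by
  intro k l
  simp only [r₁, r₂, map_mul, res_algebraMap]
  rw [mul_assoc, ← ha k l]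

theorem isSect_add {f : K → B} {t : ∀ k l, Ov (f k * f l)} {a b : ∀ k, Ov (f k)} (ha : IsSect f t a)
    (hb : IsSect f t b) : IsSect f t fun k => a k + b k := by
  intro k l
  rw [map_add, map_add, add_mul, ha k l, hb k l]

theorem isSect_zero (f : K → B) (t : ∀ k l, Ov (f k * f l)) : IsSect f t fun _ => 0 := fun k l => by simp

/-- A section which is a unit on a chosen member of the cover. -/
theorem exists_sect [Fintype K] {f : K → B} {t : ∀ k l, Ov (f k * f l)} (ht : IsCocycle f t) (k : K) :
    ∃ e, IsSect f t e ∧ IsUnit (e k) := by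
  classical
  choose M hM using fun l => exists_extend k l (t k l)
  choose b hb using fun l => hM l (∑ j, M j) (Finset.single_le_sum (fun _ _ => Nat.zero_le _) (Finset.mem_univ l))
  let N := ∑ j, M j
  have hz : ∀ i j, ∃ P : ℕ,
      algebraMap B (Ov (f i * f j)) (f k) ^ P * (r₂ f i j (b j) - r₁ f i j (b i) * t i j) = 0 := by
    intro i j
    refine exists_pow_mul_eq_zero_of_res (dvd_mul_right _ _) ?_
    have h1 := congrArg (res _ (f i * f j * f k) ⟨f j, by ring⟩) (hb i)
    have h2 := congrArg (res _ (f i * f j * f k) ⟨f i, by ring⟩) (hb j)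
    have h3 := congrArg (res _ (f i * f j * f k) ⟨1, by ring⟩) (ht.trans k i j)
    simp only [r₁, r₂, map_mul, map_sub, res_res, res_algebraMap] at h1 h2 h3 ⊢
    linear_combination h2 - (res (f i * f j) (f i * f j * f k) (dvd_mul_right _ _) (t i j)) * h1 -
      algebraMap B (Ov (f i * f j * f k)) (f k ^ N) * h3
  choose P hP using hz
  let Q := ∑ i, ∑ j, P i j
  refine ⟨fun l => algebraMap B (Ov (f l)) (f k ^ Q) * b l, fun i j => ?_, ?_⟩
  · obtain ⟨r, hr⟩ := Nat.exists_eq_add_of_le ((Finset.single_le_sum (f := P i) (fun _ _ => Nat.zero_le _)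
      (Finset.mem_univ j)).trans (Finset.single_le_sum (f := fun i => ∑ j, P i j) (fun _ _ => Nat.zero_le _)
      (Finset.mem_univ i)) : P i j ≤ Q)
    simp only [r₁, r₂, map_mul, map_pow, res_algebraMap, hr, pow_add] at hP ⊢
    linear_combination algebraMap B (Ov (f i * f j)) (f k) ^ r * hP i j
  · refine IsUnit.mul (by rw [map_pow]; exact unit_pow (f k) Q) ?_
    refine isUnit_of_isUnit_r₂_self ?_
    rw [hb k, map_pow]
    refine IsUnit.mul ?_ (ht.unit k k)
    exact (isUnit_of_dvd (dvd_mul_right _ _)).pow _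

theorem not_mem_of_isUnit (π : B →+* C) (hπ : Function.Surjective π) {P : Ideal B} [P.IsPrime]
    (hker : RingHom.ker π ≤ P) {g b : B} (hg : g ∉ P) (hu : IsUnit (algebraMap C (Ov (π g)) (π b))) : b ∉ P := by
  intro hb
  obtain ⟨y, hy⟩ := hu.exists_right_inv
  obtain ⟨d, j, hd⟩ := exists_rep (π g) y
  obtain ⟨d, rfl⟩ := hπ d
  have h1 : algebraMap C (Ov (π g)) (π (b * d)) = algebraMap C _ (π (g ^ j)) := by
    rw [map_mul, map_mul, map_pow, map_pow, ← hd, ← mul_assoc, hy, one_mul]
  obtain ⟨q, hq⟩ := (algebraMap_eq_iff _ _ _).1 h1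
  rw [← map_pow, ← map_mul, ← map_mul, ← sub_eq_zero, ← map_sub] at hq
  have h2 := hker hq
  have h3 : g ^ q * g ^ j ∈ P := (P.sub_mem_iff_right (P.mul_mem_left _ (P.mul_mem_right _ hb))).1 h2
  rw [← pow_add] at h3
  exact hg (Ideal.IsPrime.mem_of_pow_mem ‹_› _ h3)

/-- An ideal locally principal with zero locus avoiding `t` is supported at the closed point, when the local
rings at the one dimensional points have depth two. -/
theorem eq_closedPoint_of_mem [IsLocalRing B] [IsNoetherianRing B] {t : B} (ht : t ∈ maximalIdeal B)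
    (hp : ∀ p : PrimeSpectrum B, ringKrullDim (B ⧸ p.asIdeal) = 1 →
      (2 : ℕ∞) ≤ LocCoh.depth (Localization.AtPrime p.asIdeal) (Localization.AtPrime p.asIdeal))
    (I : Ideal B)
    (h : ∀ P : PrimeSpectrum B, P ≠ closedPoint B → I ≤ P.asIdeal →
      t ∉ P.asIdeal ∧ ∃ b ∈ I, ∀ x ∈ I, ∃ s ∉ P.asIdeal, s * x ∈ Ideal.span {b})
    (P : PrimeSpectrum B) (hIP : I ≤ P.asIdeal) : P = closedPoint B := by
  by_contra hP
  obtain ⟨q, hq, hqP⟩ := Ideal.exists_minimalPrimes_le hIP
  haveI := hq.1.1
  let Q : PrimeSpectrum B := ⟨q, inferInstance⟩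
  have hQ : Q ≠ closedPoint B := fun e => hP (PrimeSpectrum.ext (le_antisymm (le_maximalIdeal P.isPrime.ne_top)
    ((congrArg PrimeSpectrum.asIdeal e).ge.trans hqP)))
  obtain ⟨htq, b, hbI, hb⟩ := h Q hQ hq.1.2
  have hmin : q ∈ (Ideal.span {b}).minimalPrimes := by
    refine ⟨⟨inferInstance, (Ideal.span_singleton_le_iff_mem _).2 (hq.1.2 hbI)⟩, fun q' ⟨hq'p, hbq'⟩ hle => ?_⟩
    refine hq.2 ⟨hq'p, fun x hx => ?_⟩ hle
    obtain ⟨s, hs, hsx⟩ := hb x hx
    exact (hq'p.mem_or_mem (hbq' hsx)).resolve_left fun h' => hs (hle h')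
  have hht : q.height ≤ 1 := Ideal.height_le_one_of_isPrincipal_of_mem_minimalPrimes _ q hmin
  have hdimQ : ringKrullDim (B ⧸ q) = 1 := by
    haveI : IsLocalRing (B ⧸ q) := .of_surjective' (Ideal.Quotient.mk q) Ideal.Quotient.mk_surjective
    have htm : Ideal.Quotient.mk q t ∈ maximalIdeal (B ⧸ q) := by
      rw [← IsLocalRing.map_maximalIdeal_of_surjective (Ideal.Quotient.mk q) Ideal.Quotient.mk_surjective]
      exact Ideal.mem_map_of_mem _ ht
    refine le_antisymm ?_ ?_
    · let J : Ideal (B ⧸ q) := Ideal.span {Ideal.Quotient.mk q t}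
      have h0 : ringKrullDim ((B ⧸ q) ⧸ J) ≤ 0 := by
        haveI : Ring.KrullDimLE 0 ((B ⧸ q) ⧸ J) := Ring.krullDimLE_zero_iff.2 fun R hR => by
          let π := (Ideal.Quotient.mk J).comp (Ideal.Quotient.mk q)
          have hπ : Function.Surjective π := Ideal.Quotient.mk_surjective.comp Ideal.Quotient.mk_surjective
          by_contra hmax
          have hne : (⟨R.comap π, inferInstance⟩ : PrimeSpectrum B) ≠ closedPoint B := fun e => by
            refine hmax ?_
            have hc : R.comap π = maximalIdeal B := congrArg PrimeSpectrum.asIdeal e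
            rw [← Ideal.map_comap_of_surjective π hπ R]
            rcases Ideal.map_eq_top_or_isMaximal_of_surjective π hπ (hc ▸ maximalIdeal.isMaximal B) with h' | h'
            · exact absurd h' (by rw [Ideal.map_comap_of_surjective π hπ R]; exact hR.ne_top)
            · exact h'
          refine (h _ hne (hq.1.2.trans fun x hx => ?_)).1 ?_
          · show π x ∈ R
            simp [π, Ideal.Quotient.eq_zero_iff_mem.2 hx]
          · show π t ∈ R
            rw [show π t = 0 from Ideal.Quotient.eq_zero_iff_mem.2 (Ideal.mem_span_singleton_self _)]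
            exact R.zero_mem
        exact Order.KrullDimLE.krullDim_le
      have h1 := ringKrullDim_le_ringKrullDim_quotient_add_card (R := B ⧸ q) ({Ideal.Quotient.mk q t} : Finset (B ⧸ q))
        (by simpa [IsLocalRing.ringJacobson_eq_maximalIdeal] using htm)
      simp only [Finset.coe_singleton, Finset.card_singleton, Nat.cast_one] at h1
      rw [Finset.coe_singleton] at h1
      calc ringKrullDim (B ⧸ q) ≤ _ + 1 := h1
        _ ≤ 0 + 1 := add_le_add h0 le_rfl
        _ = 1 := zero_add 1
    · by_contra hlt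
      haveI : Ring.KrullDimLE 0 (B ⧸ q) := Ring.krullDimLE_iff.2 (by
        rw [not_le] at hlt
        cases hr : ringKrullDim (B ⧸ q) with
        | bot => simp
        | coe d =>
          rw [hr] at hlt
          have : d < 1 := WithBot.coe_lt_coe.1 (by simpa using hlt)
          exact WithBot.coe_le_coe.2 (Order.lt_one_iff.1 this).le)
      have hf := Ring.KrullDimLE.isField_of_isDomain (R := B ⧸ q)
      exact hQ (PrimeSpectrum.ext (IsLocalRing.eq_maximalIdeal (Ideal.Quotient.maximal_of_isField q hf)))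
  have hd := hp Q hdimQ
  have hd' := RelCodim6.depth_le_dim (R := Localization.AtPrime q)
  rw [IsLocalization.AtPrime.ringKrullDim_eq_height q (Localization.AtPrime q)] at hd'
  have hle := le_trans hd (WithBot.coe_le_coe.1 hd')
  exact absurd (hle.trans hht) (by decide)

end Groth.Agent.PicU24
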