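import Groth.Agent.PicU24.Lift
import Groth.Agent.PicU24.Extend

/-!
# Trivializations modulo a regular element of a complete ring
-/

set_option autoImplicit false
set_option linter.style.haveILetI false
universe u

open IsLocalRing

namespace Groth.Agent.PicU24

variable {B : Type u} [CommRing B] {K : Type u}

/-- A section is a multiple of a trivialization. -/
theorem exists_ratio [IsLocalRing B] [IsNoetherianRing B] (hd : (2 : ℕ∞) ≤ LocCoh.depth B B) {f : K → B}
    (hcov : IsCover f) {t : ∀ k l, Ov (f k * f l)} {a s : ∀ k, Ov (f k)} (ha : IsSect f t a)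
    (hu : ∀ k, IsUnit (a k)) (hs : IsSect f t s) :
    ∃ d : B, ∀ k, algebraMap B (Ov (f k)) d * a k = s k := by
  choose ua hua using hu
  obtain ⟨d, hd'⟩ := exists_glue hd hcov (fun k => s k * ((ua k)⁻¹ : (Ov (f k))ˣ)) fun k l => by
    refine ((ua l).isUnit.map (r₂ f k l)).mul_left_injective ?_
    show _ * _ = _ * _
    rw [← map_mul, mul_assoc, Units.inv_mul, mul_one, hs k l]
    have hl := ha k l
    rw [← hua l, ← hua k] at hl
    rw [hl, ← mul_assoc, ← map_mul (r₁ f k l), mul_assoc (s k), Units.inv_mul, mul_one]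
  exact ⟨d, fun k => by rw [hd' k, ← hua k, mul_assoc, Units.inv_mul, mul_one]⟩

theorem ratio_unique [IsLocalRing B] [IsNoetherianRing B] (hd : (1 : ℕ∞) ≤ LocCoh.depth B B) {f : K → B}
    (hcov : IsCover f) {a : ∀ k, Ov (f k)} (hu : ∀ k, IsUnit (a k)) {d d' : B}
    (h : ∀ k, algebraMap B (Ov (f k)) d * a k = algebraMap B (Ov (f k)) d' * a k) : d = d' :=
  eq_of_forall_algebraMap_eq hd hcov fun k => (hu k).mul_left_injective (h k)

/-- The quotient by a power of an element. -/
abbrev πn (t : B) (n : ℕ) : B →+* B ⧸ Ideal.span {t ^ (n + 1)} := Ideal.Quotient.mk _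

/-- The images of the cover in the quotient by a power. -/
abbrev fn (t : B) (f : K → B) (n : ℕ) : K → B ⧸ Ideal.span {t ^ (n + 1)} := fun k => πn t n (f k)

section

variable [IsLocalRing B] {t : B} (ht : t ∈ maximalIdeal B)

include ht in
theorem isLocalRing_quot (n : ℕ) : IsLocalRing (B ⧸ Ideal.span {t ^ (n + 1)}) :=
  haveI : Nontrivial (B ⧸ Ideal.span {t ^ (n + 1)}) :=
    Ideal.Quotient.nontrivial_iff.2 fun e => (maximalIdeal.isMaximal B).ne_top
      (top_le_iff.1 (e ▸ (Ideal.span_singleton_le_iff_mem _).2 (Ideal.pow_mem_of_mem _ ht _ n.succ_pos)))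
  .of_surjective' (Ideal.Quotient.mk _) Ideal.Quotient.mk_surjective

theorem isCover_fn {f : K → B} (hf : IsCover f) (n : ℕ) [IsLocalRing (B ⧸ Ideal.span {t ^ (n + 1)})] :
    IsCover (fn t f n) := by
  haveI : IsLocalHom (πn t n) := IsLocalHom.of_surjective _ Ideal.Quotient.mk_surjective
  refine isCover_push (πn t n) (fun P hP => PrimeSpectrum.ext
    (le_antisymm (le_maximalIdeal P.isPrime.ne_top) ?_)) (fun _ => rfl) hf
  show maximalIdeal _ ≤ _
  rw [← IsLocalRing.map_maximalIdeal_of_surjective (πn t n) Ideal.Quotient.mk_surjective]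
  exact Ideal.map_le_iff_le_comap.2 hP

end

/-- A cocycle trivial modulo a regular element is trivial, over a ring complete along it, when the quotient has
depth three and the local rings at the one dimensional points have depth two. -/
theorem triv_of_quotient [IsLocalRing B] [IsNoetherianRing B] [Fintype K] {t : B} (ht : t ∈ maximalIdeal B)
    (hreg : IsSMulRegular B t) [IsAdicComplete (Ideal.span {t}) B]
    (hd : (4 : ℕ∞) ≤ LocCoh.depth B B)
    (hp : ∀ p : PrimeSpectrum B, ringKrullDim (B ⧸ p.asIdeal) = 1 →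
      (2 : ℕ∞) ≤ LocCoh.depth (Localization.AtPrime p.asIdeal) (Localization.AtPrime p.asIdeal))
    {f : K → B} (hf : IsCover f) {T : ∀ k l, Ov (f k * f l)} (hT : IsCocycle f T)
    (h0 : Triv (fn t f 0) (push (πn t 0) (fn t f 0) (fun _ => rfl) T)) : Triv f T := by
  classical
  haveI hloc : ∀ n, IsLocalRing (B ⧸ Ideal.span {t ^ (n + 1)}) := isLocalRing_quot ht
  have hd3 : ∀ n, (3 : ℕ∞) ≤ LocCoh.depth (B ⧸ Ideal.span {t ^ (n + 1)}) (B ⧸ Ideal.span {t ^ (n + 1)}) := fun n =>
    (depth_quotient_succ (Ideal.pow_mem_of_mem _ ht _ n.succ_pos) (hreg.pow _) 3).2 hd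
  have hd2 := fun n => le_trans (by norm_num : (2 : ℕ∞) ≤ 3) (hd3 n)
  have hd1 := fun n => le_trans (by norm_num : (1 : ℕ∞) ≤ 3) (hd3 n)
  have hcn := fun n => isCover_fn (t := t) hf n
  let ρ : ∀ n, B ⧸ Ideal.span {t ^ (n + 1 + 1)} →+* B ⧸ Ideal.span {t ^ (n + 1)} := fun n =>
    Ideal.Quotient.factor (Ideal.span_singleton_le_span_singleton.2 (pow_dvd_pow t (Nat.le_succ _)))
  have hρρ : ∀ n, (ρ n).comp (πn t (n + 1)) = πn t n := fun n => RingHom.ext fun _ => rfl
  let Tn := fun n => push (πn t n) (fn t f n) (fun _ => rfl) T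
  have hρT : ∀ n, push (ρ n) (fn t f n) (fun _ => rfl) (Tn (n + 1)) = Tn n := fun n =>
    funext fun k => funext fun l => (mv_mv _ _ _ _ _ _ _ _).trans (mv_congr (hρρ n) _ _ _ _)
  have step : ∀ n a, IsSect (fn t f n) (Tn n) a → (∀ k, IsUnit (a k)) →
      ∃ a', IsSect (fn t f (n + 1)) (Tn (n + 1)) a' ∧ (∀ k, IsUnit (a' k)) ∧
        pushF (ρ n) (fn t f n) (fun _ => rfl) a' = a := by
    intro n a ha hu
    have hle : Ideal.span {t ^ (n + 1 + 1)} ≤ Ideal.span {t ^ (0 + 1)} :=
      Ideal.span_singleton_le_span_singleton.2 (pow_dvd_pow t (by omega))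
    refine exists_lift (ρ n) (Ideal.Quotient.factor_surjective _) (Ideal.Quotient.factor hle)
      (Ideal.Quotient.factor_surjective _) (πn t (n + 1) (t ^ (n + 1))) ?_ ?_ ?_ (hd3 0) (f₀ := fn t f 0)
      (fun _ => rfl) (fun _ => rfl) (hcn 0) (isCocycle_push _ _ hT) ((hρT n).symm ▸ ha) hu
    · rw [Ideal.Quotient.factor_ker, Ideal.map_span, Set.image_singleton]
    · intro x
      obtain ⟨y, rfl⟩ := Ideal.Quotient.mk_surjective x
      rw [← map_mul, Ideal.Quotient.eq_zero_iff_mem, Ideal.Quotient.factor_mk, Ideal.Quotient.eq_zero_iff_mem,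
        Ideal.mem_span_singleton, Ideal.mem_span_singleton, pow_succ t (n + 1), zero_add, pow_one]
      exact ⟨fun ⟨c, hc⟩ => ⟨c, (hreg.pow (n + 1)) (by simp only [smul_eq_mul]; linear_combination hc)⟩,
        fun h => mul_dvd_mul_left _ h⟩
    · rw [Ideal.Quotient.factor_mk, Ideal.Quotient.eq_zero_iff_mem]
      exact Ideal.mem_span_singleton.2 (pow_dvd_pow t (by omega))
  obtain ⟨a₀, ha₀, hu₀⟩ := h0
  let seq : ∀ n, {a : ∀ k, Ov (fn t f n k) // IsSect (fn t f n) (Tn n) a ∧ ∀ k, IsUnit (a k)} := fun n =>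
    Nat.rec ⟨a₀, ha₀, hu₀⟩ (fun n a => ⟨(step n a.1 a.2.1 a.2.2).choose,
      (step n a.1 a.2.1 a.2.2).choose_spec.1, (step n a.1 a.2.1 a.2.2).choose_spec.2.1⟩) n
  let a : ∀ n k, Ov (fn t f n k) := fun n => (seq n).1
  have hρa : ∀ n, pushF (ρ n) (fn t f n) (fun _ => rfl) (a (n + 1)) = a n := fun n =>
    (step n (seq n).1 (seq n).2.1 (seq n).2.2).choose_spec.2.2
  let P := fun n => fun k (x : Ov (f k)) => mv (πn t n) (f k) (fn t f n k) dvd_rfl x
  have hPρ : ∀ n k x, mv (ρ n) (fn t f (n + 1) k) (fn t f n k) dvd_rfl (P (n + 1) k x) = P n k x := fun n k x =>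
    (mv_mv _ _ _ _ _ _ _ _).trans (mv_congr (hρρ n) _ _ _ _)
  let Φ : (∀ k, Ov (f k)) → B → Prop := fun m b => ∀ n k, P n k (m k) = algebraMap _ _ (πn t n b) * a n k
  have hΦu : ∀ m b b', Φ m b → Φ m b' → b = b' := by
    intro m b b' hb hb'
    refine sub_eq_zero.1 (IsHausdorff.haus (I := Ideal.span {t}) inferInstance _ fun n => ?_)
    rw [SModEq.zero, smul_eq_mul, Ideal.mul_top, Ideal.span_singleton_pow, Ideal.mem_span_singleton]
    have := ratio_unique (hd1 n) (hcn n) (seq n).2.2 fun k => (hb n k).symm.trans (hb' n k)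
    exact dvd_trans (pow_dvd_pow t n.le_succ) (Ideal.mem_span_singleton.1 (Ideal.Quotient.eq.1 this))
  have hΦex : ∀ m, IsSect f T m → ∃ b, Φ m b := by
    intro m hm
    choose q hq using fun n => exists_ratio (hd2 n) (hcn n) (seq n).2.1 (seq n).2.2
      (isSect_push (πn t n) (g := fn t f n) (fun _ => rfl) hm)
    choose x hx using fun n => Ideal.Quotient.mk_surjective (q n)
    have hsucc : ∀ n, t ^ (n + 1) ∣ x (n + 1) - x n := by
      intro n
      refine Ideal.mem_span_singleton.1 (Ideal.Quotient.eq.1 ?_)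
      refine ratio_unique (hd1 n) (hcn n) (seq n).2.2 fun k => ?_
      have := congrArg (mv (ρ n) (fn t f (n + 1) k) (fn t f n k) dvd_rfl) (hq (n + 1) k)
      rw [map_mul, mv_algebraMap] at this
      change algebraMap _ _ (ρ n (q (n + 1))) * pushF (ρ n) (fn t f n) (fun _ => rfl) (a (n + 1)) k = _ at this
      rw [hρa n, ← hx (n + 1), Ideal.Quotient.factor_mk] at this
      rw [this, hx n, hq n k]
      exact hPρ n k (m k)
    have hmn : ∀ i j, i ≤ j → t ^ (i + 1) ∣ x j - x i := by
      intro i j hij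
      induction j, hij using Nat.le_induction with
      | base => simp
      | succ j hij ih =>
        rw [← sub_add_sub_cancel (x (j + 1)) (x j) (x i)]
        exact dvd_add (dvd_trans (pow_dvd_pow t (by omega)) (hsucc j)) ih
    obtain ⟨L, hL⟩ := IsPrecomplete.prec (I := Ideal.span {t}) inferInstance (f := x) fun {i j} hij => by
      rw [SModEq.sub_mem, smul_eq_mul, Ideal.mul_top, Ideal.span_singleton_pow, Ideal.mem_span_singleton,
        ← neg_sub, dvd_neg]
      exact dvd_trans (pow_dvd_pow t i.le_succ) (hmn i j hij)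
    refine ⟨L, fun n k => ?_⟩
    have h1 : πn t n L = q n := by
      rw [← hx n, Ideal.Quotient.eq, Ideal.mem_span_singleton]
      have h2 := hL (n + 1)
      rw [SModEq.sub_mem, smul_eq_mul, Ideal.mul_top, Ideal.span_singleton_pow, Ideal.mem_span_singleton] at h2
      have h3 := dvd_sub (hsucc n) h2
      rwa [sub_sub_sub_cancel_left] at h3
    rw [h1]
    exact (hq n k).symm
  have hΦ0 : Φ (fun _ => 0) 0 := fun n k => by simp [P]
  have hΦadd : ∀ m m' b b', Φ m b → Φ m' b' → Φ (fun k => m k + m' k) (b + b') := fun m m' b b' h h' n k => by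
    show P n k (m k + m' k) = _
    have h1 := h n k
    have h2 := h' n k
    simp only [P, map_add] at h1 h2 ⊢
    rw [h1, h2]; ring
  have hΦsmul : ∀ m b c, Φ m b → Φ (fun k => algebraMap B _ c * m k) (c * b) := fun m b c h n k => by
    show P n k (algebraMap B _ c * m k) = _
    have h1 := h n k
    simp only [P, map_mul, mv_algebraMap] at h1 ⊢
    rw [h1]; ring
  let J : Ideal B :=
    { carrier := {b | ∃ m, IsSect f T m ∧ Φ m b}
      add_mem' := fun ⟨m, hm, h⟩ ⟨m', hm', h'⟩ => ⟨_, isSect_add hm hm', hΦadd _ _ _ _ h h'⟩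
      zero_mem' := ⟨_, isSect_zero f T, hΦ0⟩
      smul_mem' := fun c _ ⟨m, hm, h⟩ => ⟨_, isSect_smul hm c, hΦsmul _ _ c h⟩ }
  have htk : ∀ k, RingHom.ker (πn t 0) = Ideal.span {t} ∧ (∀ x, P 0 k x = 0 → ∃ y, x = algebraMap B _ t * y) := fun k => by
    have hker : RingHom.ker (πn t 0) = Ideal.span {t} := by rw [Ideal.mk_ker, zero_add, pow_one]
    exact ⟨hker, fun x hx => exists_eq_algebraMap_mul (πn t 0) Ideal.Quotient.mk_surjective t hker _ _ rfl hx⟩
  have hsat : ∀ b, t * b ∈ J → b ∈ J := by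
    rintro b ⟨m, hm, h⟩
    have hdiv : ∀ k, ∃ y, m k = algebraMap B _ t * y := fun k => (htk k).2 _ (by
      rw [h 0 k, show πn t 0 (t * b) = 0 from Ideal.Quotient.eq_zero_iff_mem.2
        (Ideal.mem_span_singleton.2 (by rw [zero_add, pow_one]; exact dvd_mul_right _ _)), map_zero, zero_mul])
    choose y hy using hdiv
    refine ⟨y, fun k l => sub_eq_zero.1 (regular_algebraMap _ hreg ?_), fun n k => ?_⟩
    · have := hm k l
      rw [hy k, hy l] at this
      simp only [r₁, r₂, map_mul, res_algebraMap] at this ⊢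
      linear_combination this
    · obtain ⟨ã, hã⟩ := mv_surjective (πn t (n + 1)) Ideal.Quotient.mk_surjective (f k) (fn t f (n + 1) k) rfl (a (n + 1) k)
      have hn : P n k ã = a n k := by
        rw [← hPρ n k ã]
        show mv _ _ _ _ (mv _ _ _ _ ã) = _
        rw [hã]
        exact congrFun (hρa n) k
      obtain ⟨z, hz⟩ := exists_eq_algebraMap_mul (πn t (n + 1)) Ideal.Quotient.mk_surjective (t ^ (n + 1 + 1))
        Ideal.mk_ker (f k) (fn t f (n + 1) k) rfl (x := algebraMap B _ t * (y k - algebraMap B _ b * ã)) (by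
          have := h (n + 1) k
          simp only [P, hy k, map_mul, mv_algebraMap] at this
          rw [map_mul, map_sub, map_mul, mv_algebraMap, mv_algebraMap, hã, mul_sub]
          linear_combination this)
      have hw : y k - algebraMap B _ b * ã = algebraMap B _ (t ^ (n + 1)) * z := by
        refine sub_eq_zero.1 (regular_algebraMap _ hreg ?_)
        simp only [map_mul, map_pow, pow_succ] at hz ⊢
        linear_combination hz
      have := congrArg (P n k) hw
      simp only [P, map_sub, map_mul, mv_algebraMap] at this hn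
      rw [show πn t n (t ^ (n + 1)) = 0 from Ideal.Quotient.eq_zero_iff_mem.2 (Ideal.mem_span_singleton_self _),
        map_zero, zero_mul, hn, sub_eq_zero] at this
      exact this
  have hmem0 : ∀ {P' : PrimeSpectrum B}, t ∈ P'.asIdeal → ∀ {k} {b : B}, f k ∉ P'.asIdeal →
      IsUnit (algebraMap (B ⧸ Ideal.span {t ^ (0 + 1)}) (Ov (fn t f 0 k)) (πn t 0 b)) → b ∉ P'.asIdeal :=
    by
      intro P' htP k b hk hu
      exact not_mem_of_isUnit (πn t 0) Ideal.Quotient.mk_surjective
        ((htk k).1.le.trans ((Ideal.span_singleton_le_iff_mem _).2 htP)) hk hu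
  have hJone : (1 : B) ∈ J := by
    have hV : ∀ Q : PrimeSpectrum B, J ≤ Q.asIdeal → Q = closedPoint B := by
      refine eq_closedPoint_of_mem ht hp J fun Q hQ hJQ => ?_
      obtain ⟨k, hk⟩ := hf.cov Q hQ
      obtain ⟨e, he, heu⟩ := exists_sect hT k
      obtain ⟨b, hb⟩ := hΦex e he
      have hbu : IsUnit (algebraMap (B ⧸ Ideal.span {t ^ (0 + 1)}) (Ov (fn t f 0 k)) (πn t 0 b)) := by
        have h1 : IsUnit (P 0 k (e k)) := heu.map (mv (πn t 0) (f k) (fn t f 0 k) dvd_rfl)
        rw [hb 0 k] at h1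
        exact isUnit_of_mul_isUnit_left h1
      refine ⟨fun htQ => hmem0 htQ hk hbu (hJQ ⟨e, he, hb⟩),
        b, ⟨e, he, hb⟩, ?_⟩
      rintro x ⟨m, hm, hx⟩
      obtain ⟨eu, heu'⟩ := heu
      obtain ⟨c, n, hc⟩ := exists_rep (f k) (m k * ((eu⁻¹ : (Ov (f k))ˣ) : Ov (f k)))
      let z : ∀ l, Ov (f l) := fun l => algebraMap B _ (f k ^ n) * m l + algebraMap B _ (-c) * e l
      have hzs : IsSect f T z := isSect_add (isSect_smul hm _) (isSect_smul he _)
      have hzk : z k = 0 := by
        simp only [z, map_neg, map_pow, ← hc]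
        rw [← heu']
        linear_combination -(m k * algebraMap B (Ov (f k)) (f k) ^ n) * Units.inv_mul eu
      choose N hN using fun l => exists_pow_mul_eq_zero_of_r₂ (f := f) (k := k) (l := l) (x := z l) (by
        rw [hzs k l, hzk, map_zero, zero_mul])
      have hkill : (fun l => algebraMap B (Ov (f l)) (f k ^ ∑ l, N l) * z l) = fun _ => 0 := funext fun l => by
        obtain ⟨r, hr⟩ := Nat.exists_eq_add_of_le (Finset.single_le_sum (fun _ _ => Nat.zero_le _) (Finset.mem_univ l) :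
          N l ≤ ∑ l, N l)
        rw [hr, pow_add, map_mul, map_pow, mul_assoc, mul_left_comm, hN l, mul_zero]
      have h2 := hΦsmul _ _ (f k ^ ∑ l, N l)
        (hΦadd _ _ _ _ (hΦsmul _ _ (f k ^ n) hx) (hΦsmul _ _ (-c) hb))
      rw [show (fun l => algebraMap B (Ov (f l)) (f k ^ ∑ l, N l) *
        (algebraMap B _ (f k ^ n) * m l + algebraMap B _ (-c) * e l)) = fun _ => 0 from hkill] at h2
      have h3 := hΦu _ _ _ h2 hΦ0
      exact ⟨f k ^ ((∑ l, N l) + n), fun h => hk (Q.isPrime.mem_of_pow_mem _ h),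
        Ideal.mem_span_singleton'.2 ⟨f k ^ (∑ l, N l) * c, by rw [pow_add]; linear_combination -h3⟩⟩
    have hrad : t ∈ J.radical := by
      rw [Ideal.radical_eq_sInf]
      refine Submodule.mem_sInf.2 fun Q ⟨hQ, hQp⟩ => ?_
      have := congrArg PrimeSpectrum.asIdeal (hV ⟨Q, hQp⟩ hQ)
      rw [show Q = maximalIdeal B from this]; exact ht
    obtain ⟨N, hN⟩ := hrad
    induction N with
    | zero => simpa using hN
    | succ N ih => exact ih (hsat _ (by rwa [← pow_succ']))
  obtain ⟨m, hm, hm1⟩ := hJone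
  let I : Ideal B :=
    { carrier := {x | ∀ k, m k ∣ algebraMap B (Ov (f k)) x}
      add_mem' := fun h h' k => by rw [map_add]; exact dvd_add (h k) (h' k)
      zero_mem' := fun k => by rw [map_zero]; exact dvd_zero _
      smul_mem' := fun c x h k => by rw [smul_eq_mul, map_mul]; exact (h k).mul_left _ }
  refine ⟨m, hm, fun k => ?_⟩
  have hI : ∀ Q : PrimeSpectrum B, I ≤ Q.asIdeal → Q = closedPoint B := by
    refine eq_closedPoint_of_mem ht hp I fun Q hQ hIQ => ?_
    obtain ⟨k, hk⟩ := hf.cov Q hQ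
    obtain ⟨c, n, hc⟩ := exists_rep (f k) (m k)
    have hex : ∀ l, ∃ M : ℕ, ∀ N, M ≤ N → m l ∣ algebraMap B (Ov (f l)) (f k ^ N * c) := by
      intro l
      obtain ⟨u, hu⟩ := hT.unit k l
      obtain ⟨M, hM⟩ := exists_extend k l
        (algebraMap B (Ov (f k * f l)) (f k ^ n) * ((u⁻¹ : (Ov (f k * f l))ˣ) : Ov (f k * f l)))
      obtain ⟨z, hz⟩ := hM M le_rfl
      obtain ⟨P', hP'⟩ := exists_pow_mul_eq_zero_of_r₂ (f := f) (k := k) (l := l)
        (x := z * m l - algebraMap B _ (f k ^ M * c)) (by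
          have hck := congrArg (r₁ f k l) hc
          have hml := hm k l
          rw [← hu] at hml
          simp only [r₁, r₂, map_sub, map_mul, map_pow, res_algebraMap] at hz hck hml ⊢
          rw [hz, hml, ← hck]
          linear_combination (algebraMap B (Ov (f k * f l)) (f k) ^ M * algebraMap B (Ov (f k * f l)) (f k) ^ n *
            res (f k) (f k * f l) (dvd_mul_right _ _) (m k)) * Units.inv_mul u)
      refine ⟨M + P', fun N hN => ?_⟩
      obtain ⟨r, rfl⟩ := Nat.exists_eq_add_of_le hN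
      refine ⟨algebraMap B _ (f k ^ (P' + r)) * z, ?_⟩
      simp only [map_mul, map_pow, pow_add] at hP' ⊢
      linear_combination -(algebraMap B (Ov (f l)) (f k) ^ r) * hP'
    choose M hM using hex
    let N := ∑ l, M l
    have hbI : f k ^ N * c ∈ I := fun l =>
      hM l N (Finset.single_le_sum (fun _ _ => Nat.zero_le _) (Finset.mem_univ l))
    refine ⟨fun htQ => ?_, f k ^ N * c, hbI, fun x hx => ?_⟩
    · have h1 := congrArg (mv (πn t 0) (f k) (fn t f 0 k) dvd_rfl) hc
      rw [map_mul, map_pow, mv_algebraMap, mv_algebraMap] at h1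
      have h2 : mv (πn t 0) (f k) (fn t f 0 k) dvd_rfl (m k) = a 0 k := by
        have := hm1 0 k; rwa [map_one, map_one, one_mul] at this
      rw [h2] at h1
      have hc' : c ∉ Q.asIdeal := hmem0 htQ hk (h1 ▸ (hu₀ k).mul (unit_pow _ n))
      exact (Q.isPrime.mem_or_mem (hIQ hbI)).elim (fun h => hk (Q.isPrime.mem_of_pow_mem _ h)) hc'
    · obtain ⟨y, hy⟩ := hx k
      obtain ⟨d, j, hd⟩ := exists_rep (f k) y
      have h1 : algebraMap B (Ov (f k)) (f k ^ (n + j) * x) = algebraMap B _ (c * d) := by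
        rw [map_mul, map_mul, ← hc, ← hd, hy, map_pow, pow_add]; ring
      obtain ⟨q, hq⟩ := (algebraMap_eq_iff _ _ _).1 h1
      exact ⟨f k ^ (q + (n + j) + N), fun h => hk (Q.isPrime.mem_of_pow_mem _ h),
        Ideal.mem_span_singleton'.2 ⟨f k ^ q * d, by rw [pow_add, pow_add]; linear_combination -(f k ^ N) * hq⟩⟩
  have hrad : f k ∈ I.radical := by
    rw [Ideal.radical_eq_sInf]
    refine Submodule.mem_sInf.2 fun Q ⟨hQ, hQp⟩ => ?_
    have := congrArg PrimeSpectrum.asIdeal (hI ⟨Q, hQp⟩ hQ)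
    rw [show Q = maximalIdeal B from this]; exact hf.mem k
  obtain ⟨i, hi⟩ := hrad
  exact isUnit_of_dvd_unit (hi k) (by rw [map_pow]; exact unit_pow _ i)

end Groth.Agent.PicU24
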