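import Mathlib

/-!
# Localizations away from elements, moved along ring maps
-/

set_option autoImplicit false
universe u

namespace Groth.Agent.PicU24

variable {B C D : Type u} [CommRing B] [CommRing C] [CommRing D]

/-- Localization away from an element. -/
abbrev Ov (g : B) : Type u := Localization.Away g

theorem isUnit_of_dvd {g h : B} (hd : g ∣ h) : IsUnit (algebraMap B (Ov h) g) :=
  isUnit_of_dvd_unit (map_dvd _ hd) (IsLocalization.Away.algebraMap_isUnit h)

/-- The map between localizations induced by a ring map. -/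
noncomputable def mv (φ : B →+* C) (g : B) (h : C) (hd : φ g ∣ h) : Ov g →+* Ov h :=
  IsLocalization.Away.lift g (g := (algebraMap C (Ov h)).comp φ) (isUnit_of_dvd hd)

@[simp]
theorem mv_algebraMap (φ : B →+* C) (g : B) (h : C) (hd : φ g ∣ h) (a : B) :
    mv φ g h hd (algebraMap B (Ov g) a) = algebraMap C (Ov h) (φ a) :=
  IsLocalization.Away.lift_eq g _ a

theorem ext_ov {S : Type u} [CommRing S] {g : B} {p q : Ov g →+* S}
    (h : ∀ a, p (algebraMap B (Ov g) a) = q (algebraMap B (Ov g) a)) : p = q :=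
  IsLocalization.ringHom_ext (Submonoid.powers g) (RingHom.ext h)

@[simp]
theorem mv_mv (φ : B →+* C) (ψ : C →+* D) (g : B) (h : C) (e : D) (hd : φ g ∣ h) (he : ψ h ∣ e) (x : Ov g) :
    mv ψ h e he (mv φ g h hd x) =
      mv (ψ.comp φ) g e (((map_dvd ψ hd).trans he : ψ (φ g) ∣ e)) x := by
  have := ext_ov (p := (mv ψ h e he).comp (mv φ g h hd))
    (q := mv (ψ.comp φ) g e (((map_dvd ψ hd).trans he : ψ (φ g) ∣ e))) fun a => by simp
  exact RingHom.congr_fun this x

theorem mv_congr {φ ψ : B →+* C} (e : φ = ψ) (g : B) (h : C) (hd : φ g ∣ h) (x : Ov g) :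
    mv φ g h hd x = mv ψ g h (e ▸ hd) x := by subst e; rfl

theorem mv_id (g : B) (hd : (RingHom.id B) g ∣ g) (x : Ov g) : mv (RingHom.id B) g g hd x = x := by
  have := ext_ov (p := mv (RingHom.id B) g g hd) (q := RingHom.id _) fun a => by simp
  exact RingHom.congr_fun this x

/-- Restriction. -/
noncomputable abbrev res (g h : B) (hd : g ∣ h) : Ov g →+* Ov h := mv (RingHom.id B) g h hd

@[simp]
theorem res_algebraMap (g h : B) (hd : g ∣ h) (a : B) :
    res g h hd (algebraMap B (Ov g) a) = algebraMap B (Ov h) a :=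
  mv_algebraMap (RingHom.id B) g h hd a

@[simp]
theorem res_res (g h e : B) (hd : g ∣ h) (he : h ∣ e) (x : Ov g) :
    res h e he (res g h hd x) = res g e (hd.trans he) x :=
  (mv_mv (RingHom.id B) (RingHom.id B) g h e hd he x).trans (mv_congr (RingHom.comp_id _) _ _ _ _)

theorem exists_rep (g : B) (x : Ov g) : ∃ (a : B) (n : ℕ), x * algebraMap B (Ov g) g ^ n = algebraMap B (Ov g) a := by
  obtain ⟨⟨a, ⟨_, n, rfl⟩⟩, e⟩ := IsLocalization.surj (Submonoid.powers g) x
  exact ⟨a, n, by simpa using e⟩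

theorem exists_rep_of_le (g : B) (x : Ov g) : ∃ n : ℕ, ∀ m, n ≤ m →
    ∃ a : B, x * algebraMap B (Ov g) g ^ m = algebraMap B (Ov g) a := by
  obtain ⟨a, n, e⟩ := exists_rep g x
  refine ⟨n, fun m hm => ⟨g ^ (m - n) * a, ?_⟩⟩
  rw [map_mul, map_pow, ← e, mul_comm _ (x * _), mul_assoc, ← pow_add]
  congr 2
  omega

theorem algebraMap_eq_iff (g a b : B) :
    algebraMap B (Ov g) a = algebraMap B (Ov g) b ↔ ∃ n : ℕ, g ^ n * a = g ^ n * b := by
  rw [IsLocalization.eq_iff_exists (Submonoid.powers g)]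
  exact ⟨fun ⟨⟨_, n, rfl⟩, e⟩ => ⟨n, e⟩, fun ⟨n, e⟩ => ⟨⟨_, n, rfl⟩, e⟩⟩

theorem unit_pow (g : B) (n : ℕ) : IsUnit (algebraMap B (Ov g) g ^ n) :=
  (IsLocalization.Away.algebraMap_isUnit g).pow n

/-- An element vanishing on a smaller basic open is killed by a power. -/
theorem exists_pow_mul_eq_zero_of_res {g h : B} {x : Ov g} (hd : g ∣ g * h)
    (hx : res g (g * h) hd x = 0) : ∃ n : ℕ, algebraMap B (Ov g) h ^ n * x = 0 := by
  obtain ⟨a, m, e⟩ := exists_rep g x
  have h1 : algebraMap B (Ov (g * h)) a = algebraMap B (Ov (g * h)) 0 := by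
    have := congrArg (res g (g * h) hd) e
    rw [map_mul, hx, zero_mul, mv_algebraMap, RingHom.id_apply] at this
    rw [← this, map_zero]
  obtain ⟨n, hn⟩ := (algebraMap_eq_iff _ _ _).1 h1
  refine ⟨n, (unit_pow g n).mul_right_eq_zero.1 ((unit_pow g m).mul_left_eq_zero.1 ?_)⟩
  rw [mul_zero, mul_pow] at hn
  calc algebraMap B (Ov g) g ^ n * (algebraMap B (Ov g) h ^ n * x) * algebraMap B (Ov g) g ^ m
      = algebraMap B (Ov g) g ^ n * algebraMap B (Ov g) h ^ n * (x * algebraMap B (Ov g) g ^ m) := by ring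
    _ = algebraMap B (Ov g) (g ^ n * h ^ n * a) := by rw [e]; simp
    _ = 0 := by rw [hn, map_zero]

theorem mv_surjective (φ : B →+* C) (hφ : Function.Surjective φ) (g : B) (h : C) (e : φ g = h) :
    Function.Surjective (mv φ g h (e ▸ dvd_rfl)) := by
  subst e
  intro y
  obtain ⟨c, n, hc⟩ := exists_rep (φ g) y
  obtain ⟨b, rfl⟩ := hφ c
  obtain ⟨u, hu⟩ := unit_pow g n
  refine ⟨algebraMap B (Ov g) b * (u⁻¹ : (Ov g)ˣ), (unit_pow (φ g) n).mul_left_injective ?_⟩
  show mv φ g (φ g) _ _ * algebraMap C (Ov (φ g)) (φ g) ^ n = y * algebraMap C (Ov (φ g)) (φ g) ^ n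
  rw [hc, ← mv_algebraMap φ g (φ g) dvd_rfl g, ← map_pow, ← map_mul, mul_assoc, ← hu, Units.inv_mul, mul_one,
    mv_algebraMap]

theorem mem_of_mv_eq_zero (φ : B →+* C) (hφ : Function.Surjective φ) (g : B) (h : C) (e : φ g = h) {x : Ov g}
    (hx : mv φ g h (e ▸ dvd_rfl) x = 0) : x ∈ (RingHom.ker φ).map (algebraMap B (Ov g)) := by
  subst e
  obtain ⟨a, m, ha⟩ := exists_rep g x
  have h1 := congrArg (mv φ g (φ g) dvd_rfl) ha
  rw [map_mul, hx, zero_mul, mv_algebraMap, ← map_zero (algebraMap C (Ov (φ g)))] at h1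
  obtain ⟨n, hn⟩ := (algebraMap_eq_iff _ _ _).1 h1.symm
  rw [mul_zero, ← map_pow, ← map_mul] at hn
  refine (Ideal.unit_mul_mem_iff_mem _ (unit_pow g (n + m))).1 ?_
  have := Ideal.mem_map_of_mem (algebraMap B (Ov g)) (RingHom.mem_ker.2 hn)
  rw [map_mul, map_pow, ← ha] at this
  convert! this using 1
  ring

theorem exists_eq_algebraMap_mul (φ : B →+* C) (hφ : Function.Surjective φ) (ε : B)
    (hker : RingHom.ker φ = Ideal.span {ε}) (g : B) (h : C) (e : φ g = h) {x : Ov g}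
    (hx : mv φ g h (e ▸ dvd_rfl) x = 0) : ∃ y, x = algebraMap B (Ov g) ε * y := by
  have := mem_of_mv_eq_zero φ hφ g h e hx
  rw [hker, Ideal.map_span, Set.image_singleton, Ideal.mem_span_singleton] at this
  exact this

theorem regular_algebraMap (g : B) {t : B} (ht : IsSMulRegular B t) {x : Ov g}
    (hx : algebraMap B (Ov g) t * x = 0) : x = 0 := by
  obtain ⟨a, m, ha⟩ := exists_rep g x
  have h1 : algebraMap B (Ov g) (t * a) = algebraMap B (Ov g) 0 := by
    rw [map_zero, map_mul, ← ha, ← mul_assoc, hx, zero_mul]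
  obtain ⟨n, hn⟩ := (algebraMap_eq_iff _ _ _).1 h1
  have h2 : g ^ n * a = 0 := ht (show t • (g ^ n * a) = t • (0 : B) by
    simp only [smul_eq_mul, mul_zero]; linear_combination hn)
  refine (unit_pow g m).mul_left_eq_zero.1 ?_
  rw [ha, ← map_zero (algebraMap B (Ov g)), algebraMap_eq_iff]
  exact ⟨n, by rw [h2, mul_zero]⟩

end Groth.Agent.PicU24
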