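import Groth.Agent.PicU24.Away
import Groth.Agent.RamSam24.Glue
import Groth.Agent.LC.DepthExt
import Groth.Agent.LC.DepthFlatFibre
import Groth.Agent.Alg6.AssDepth

/-!
# Cocycles of units on a punctured spectrum, and the vanishing of additive classes in depth three
-/

set_option autoImplicit false
set_option linter.style.haveILetI false
universe u

open IsLocalRing

namespace Groth.Agent.PicU24

variable {B C : Type u} [CommRing B] [CommRing C] {K : Type u}

theorem dL (φ : B →+* C) {f : K → B} {g : K → C} (hg : ∀ k, φ (f k) = g k) (k l : K) :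
    φ (f k * f l) ∣ g k * g l := by rw [map_mul, hg, hg]

/-- Restriction from the first of two opens. -/
noncomputable abbrev r₁ (f : K → B) (k l : K) : Ov (f k) →+* Ov (f k * f l) := res _ _ (dvd_mul_right _ _)

/-- Restriction from the second of two opens. -/
noncomputable abbrev r₂ (f : K → B) (k l : K) : Ov (f l) →+* Ov (f k * f l) := res _ _ (dvd_mul_left _ _)

/-- The elements avoid every prime but the closed one, and lie in the maximal ideal. -/
structure IsCover [IsLocalRing B] (f : K → B) : Prop where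
  mem : ∀ k, f k ∈ maximalIdeal B
  cov : ∀ p : PrimeSpectrum B, p ≠ closedPoint B → ∃ k, f k ∉ p.asIdeal

/-- A cocycle of units. -/
structure IsCocycle (f : K → B) (t : ∀ k l, Ov (f k * f l)) : Prop where
  unit : ∀ k l, IsUnit (t k l)
  trans : ∀ k l m,
    res _ (f k * f l * f m) (dvd_mul_right _ _) (t k l) *
      res _ (f k * f l * f m) ⟨f k, by ring⟩ (t l m) =
      res _ (f k * f l * f m) ⟨f l, by ring⟩ (t k m)

/-- An additive cocycle. -/
def IsAddCocycle (f : K → B) (c : ∀ k l, Ov (f k * f l)) : Prop :=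
  ∀ k l m,
    res _ (f k * f l * f m) (dvd_mul_right _ _) (c k l) +
      res _ (f k * f l * f m) ⟨f k, by ring⟩ (c l m) =
      res _ (f k * f l * f m) ⟨f l, by ring⟩ (c k m)

/-- A compatible family of coordinates. -/
def IsSect (f : K → B) (t : ∀ k l, Ov (f k * f l)) (a : ∀ k, Ov (f k)) : Prop :=
  ∀ k l, r₂ f k l (a l) = r₁ f k l (a k) * t k l

/-- The cocycle is a coboundary. -/
def Triv (f : K → B) (t : ∀ k l, Ov (f k * f l)) : Prop := ∃ a, IsSect f t a ∧ ∀ k, IsUnit (a k)

/-- A cocycle moved along a ring map. -/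
noncomputable def push (φ : B →+* C) {f : K → B} (g : K → C) (hg : ∀ k, φ (f k) = g k)
    (t : ∀ k l, Ov (f k * f l)) : ∀ k l, Ov (g k * g l) :=
  fun k l => mv φ _ _ (dL φ hg k l) (t k l)

/-- A family moved along a ring map. -/
noncomputable def pushF (φ : B →+* C) {f : K → B} (g : K → C) (hg : ∀ k, φ (f k) = g k)
    (a : ∀ k, Ov (f k)) : ∀ k, Ov (g k) :=
  fun k => mv φ _ _ (hg k ▸ dvd_rfl) (a k)

theorem mv_res_eq (φ : B →+* C) {g g' : B} {h h' : C} (hd : g ∣ g') (he : φ g' ∣ h') (he' : φ g ∣ h)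
    (hd' : h ∣ h') (x : Ov g) :
    mv φ g' h' he (res g g' hd x) = res h h' hd' (mv φ g h he' x) := by
  rw [mv_mv, mv_mv]
  exact mv_congr (by ext; rfl) _ _ _ _

theorem isCocycle_push (φ : B →+* C) {f : K → B} {g : K → C} (hg : ∀ k, φ (f k) = g k)
    {t : ∀ k l, Ov (f k * f l)} (ht : IsCocycle f t) : IsCocycle g (push φ g hg t) := by
  refine ⟨fun k l => (ht.unit k l).map _, fun k l m => ?_⟩
  have hd : φ (f k * f l * f m) ∣ g k * g l * g m := by rw [map_mul, map_mul, hg, hg, hg]
  have := congrArg (mv φ _ _ hd) (ht.trans k l m)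
  rw [map_mul, mv_res_eq φ _ hd (dL φ hg k l) (dvd_mul_right _ _),
    mv_res_eq φ _ hd (dL φ hg l m) ⟨g k, by ring⟩, mv_res_eq φ _ hd (dL φ hg k m) ⟨g l, by ring⟩] at this
  exact this

theorem isAddCocycle_push (φ : B →+* C) {f : K → B} {g : K → C} (hg : ∀ k, φ (f k) = g k)
    {t : ∀ k l, Ov (f k * f l)} (ht : IsAddCocycle f t) : IsAddCocycle g (push φ g hg t) := by
  intro k l m
  have hd : φ (f k * f l * f m) ∣ g k * g l * g m := by rw [map_mul, map_mul, hg, hg, hg]
  have := congrArg (mv φ _ _ hd) (ht k l m)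
  rw [map_add, mv_res_eq φ _ hd (dL φ hg k l) (dvd_mul_right _ _),
    mv_res_eq φ _ hd (dL φ hg l m) ⟨g k, by ring⟩, mv_res_eq φ _ hd (dL φ hg k m) ⟨g l, by ring⟩] at this
  exact this

theorem isSect_push (φ : B →+* C) {f : K → B} {g : K → C} (hg : ∀ k, φ (f k) = g k)
    {t : ∀ k l, Ov (f k * f l)} {a : ∀ k, Ov (f k)} (ha : IsSect f t a) :
    IsSect g (push φ g hg t) (pushF φ g hg a) := by
  intro k l
  have := congrArg (mv φ _ _ (dL φ hg k l)) (ha k l)
  rw [map_mul, mv_res_eq φ _ (dL φ hg k l) (hg l ▸ dvd_rfl) (dvd_mul_left _ _),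
    mv_res_eq φ _ (dL φ hg k l) (hg k ▸ dvd_rfl) (dvd_mul_right _ _)] at this
  exact this

theorem pushF_pushF {D : Type u} [CommRing D] (φ : B →+* C) (ψ : C →+* D) {f : K → B} {g : K → C} {h : K → D}
    (hg : ∀ k, φ (f k) = g k) (hh : ∀ k, ψ (g k) = h k) (hgh : ∀ k, (ψ.comp φ) (f k) = h k) (a : ∀ k, Ov (f k)) :
    pushF ψ h hh (pushF φ g hg a) = pushF (ψ.comp φ) h hgh a :=
  funext fun _ => mv_mv _ _ _ _ _ _ _ _

theorem push_push {D : Type u} [CommRing D] (φ : B →+* C) (ψ : C →+* D) {f : K → B} {g : K → C} {h : K → D}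
    (hg : ∀ k, φ (f k) = g k) (hh : ∀ k, ψ (g k) = h k) (hgh : ∀ k, (ψ.comp φ) (f k) = h k)
    (t : ∀ k l, Ov (f k * f l)) :
    push ψ h hh (push φ g hg t) = push (ψ.comp φ) h hgh t :=
  funext fun _ => funext fun _ => mv_mv _ _ _ _ _ _ _ _

theorem isCover_push [IsLocalRing B] [IsLocalRing C] (φ : B →+* C) [IsLocalHom φ]
    (hprim : ∀ P : PrimeSpectrum C, maximalIdeal B ≤ P.asIdeal.comap φ → P = closedPoint C)
    {f : K → B} {g : K → C} (hg : ∀ k, φ (f k) = g k) (hf : IsCover f) : IsCover g where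
  mem k := hg k ▸ (map_nonunit φ (f k) (hf.mem k))
  cov P hP := by
    obtain ⟨k, hk⟩ := hf.cov ⟨P.asIdeal.comap φ, inferInstance⟩ fun e =>
      hP (hprim P (congrArg PrimeSpectrum.asIdeal e).ge)
    exact ⟨k, fun h => hk (Ideal.mem_comap.2 (hg k ▸ h))⟩

section Depth

variable [IsLocalRing B] [IsNoetherianRing B]

/-- Depth of the quotient by a regular element. -/
theorem depth_quotient_succ {x : B} (hx : x ∈ maximalIdeal B) (hreg : IsSMulRegular B x) (n : ℕ)
    [IsLocalRing (B ⧸ Ideal.span {x})] :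
    (n : ℕ∞) ≤ LocCoh.depth (B ⧸ Ideal.span {x}) (B ⧸ Ideal.span {x}) ↔
      ((n + 1 : ℕ) : ℕ∞) ≤ LocCoh.depth B B := by
  have e : QuotSMulTop x B ≃ₗ[B] B ⧸ Ideal.span {x} :=
    Submodule.quotEquivOfEq _ _ (by rw [← Submodule.ideal_span_singleton_smul, smul_eq_mul, Ideal.mul_top])
  have hmap : (maximalIdeal B).map (Ideal.Quotient.mk (Ideal.span {x})) = maximalIdeal (B ⧸ Ideal.span {x}) :=
    IsLocalRing.map_maximalIdeal_of_surjective _ Ideal.Quotient.mk_surjective
  unfold LocCoh.depth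
  rw [← LC.le_idealDepth_quotSMulTop_iff (maximalIdeal B) hx hreg n, LC.idealDepth_congr _ e,
    LC.idealDepth_quot_self_le (Ideal.span {x}) (maximalIdeal B), hmap]

omit [IsNoetherianRing B] in
theorem algebraMap_atPrime_res {g h : B} (hd : g ∣ h) (P : PrimeSpectrum B)
    (hg : IsUnit (algebraMap B (Localization.AtPrime P.asIdeal) g))
    (hh : IsUnit (algebraMap B (Localization.AtPrime P.asIdeal) h)) (x : Ov g) :
    IsLocalization.Away.lift (S := Ov h) h hh (res g h hd x) =
      IsLocalization.Away.lift (S := Ov g) g hg x := by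
  have := ext_ov (p := (IsLocalization.Away.lift (S := Ov h) h hh).comp (res g h hd))
    (q := IsLocalization.Away.lift (S := Ov g) g hg) fun a => by simp
  exact RingHom.congr_fun this x

omit [IsNoetherianRing B] in
theorem unit_atPrime {g : B} {P : PrimeSpectrum B} (h : g ∉ P.asIdeal) :
    IsUnit (algebraMap B (Localization.AtPrime P.asIdeal) g) :=
  IsLocalization.map_units (M := P.asIdeal.primeCompl) _ ⟨g, h⟩

/-- In depth two compatible functions on the cover come from the ring. -/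
theorem exists_glue (hd : (2 : ℕ∞) ≤ LocCoh.depth B B) {f : K → B} (hf : IsCover f) (a : ∀ k, Ov (f k))
    (ha : ∀ k l, r₂ f k l (a l) = r₁ f k l (a k)) :
    ∃ x : B, ∀ k, algebraMap B (Ov (f k)) x = a k := by
  classical
  choose k hk using hf.cov
  let c : ∀ P : PrimeSpectrum B, P ≠ closedPoint B → Localization.AtPrime P.asIdeal :=
    fun P hP => IsLocalization.Away.lift (S := Ov (f (k P hP))) _ (unit_atPrime (hk P hP)) (a (k P hP))
  have hc : ∀ (P : PrimeSpectrum B) (hP : P ≠ closedPoint B) (l : K) (hl : f l ∉ P.asIdeal),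
      IsLocalization.Away.lift (S := Ov (f l)) _ (unit_atPrime hl) (a l) = c P hP := by
    intro P hP l hl
    have hu : IsUnit (algebraMap B (Localization.AtPrime P.asIdeal) (f (k P hP) * f l)) := by
      rw [map_mul]; exact (unit_atPrime (hk P hP)).mul (unit_atPrime hl)
    have h1 := algebraMap_atPrime_res (dvd_mul_left (f l) (f (k P hP))) P (unit_atPrime hl) hu (a l)
    have h2 := algebraMap_atPrime_res (dvd_mul_right (f (k P hP)) (f l)) P (unit_atPrime (hk P hP)) hu (a (k P hP))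
    rw [← h1]
    change IsLocalization.Away.lift _ hu (r₂ f (k P hP) l (a l)) = _
    rw [ha]
    exact h2
  obtain ⟨x, hx⟩ := RamSam24.glue_punctured B hd c fun P hP => by
    obtain ⟨b, n, e⟩ := exists_rep _ (a (k P hP))
    refine ⟨f (k P hP), f (k P hP) ^ n, b, hk P hP, fun h => hk P hP (P.isPrime.mem_of_pow_mem n h), fun q hq hgq => ?_⟩
    rw [← hc q hq _ hgq]
    have := congrArg (IsLocalization.Away.lift (S := Ov (f (k P hP))) _ (unit_atPrime hgq)) e
    rw [map_mul, map_pow, IsLocalization.Away.lift_eq, IsLocalization.Away.lift_eq] at this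
    rw [map_pow, mul_comm]
    exact this
  refine ⟨x, fun l => sub_eq_zero.1 ?_⟩
  obtain ⟨b, n, e⟩ := exists_rep (f l) (a l)
  refine (unit_pow (f l) n).mul_left_eq_zero.1 ?_
  rw [sub_mul, e, ← map_pow, ← map_mul, sub_eq_zero, algebraMap_eq_iff]
  obtain ⟨N, hN⟩ := RamSam24.exists_pow_mul_eq_zero (f l) (x * f l ^ n - b) fun q hq => by
    have hq' : q ≠ closedPoint B := fun e => hq (e ▸ hf.mem l)
    have := congrArg (IsLocalization.Away.lift (S := Ov (f l)) _ (unit_atPrime hq)) e
    rw [map_mul, map_pow, IsLocalization.Away.lift_eq, IsLocalization.Away.lift_eq, hc q hq' l hq, ← hx q hq'] at this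
    rw [map_sub, map_mul, map_pow, this, sub_self]
  exact ⟨N, by linear_combination hN⟩

/-- In depth one an element is determined by its restrictions to the cover. -/
theorem eq_of_forall_algebraMap_eq (hd : (1 : ℕ∞) ≤ LocCoh.depth B B) {f : K → B} (hf : IsCover f) {x y : B}
    (h : ∀ k, algebraMap B (Ov (f k)) x = algebraMap B (Ov (f k)) y) : x = y := by
  obtain ⟨z, hz, hreg⟩ := (Alg6.exists_isSMulRegular_mem_iff (M := B) (maximalIdeal B)).mpr fun p hp hle => by
    have := (maximalIdeal.isMaximal B).eq_of_le (IsAssociatedPrime.isPrime hp).ne_top hle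
    exact Alg6.one_le_depth_iff.1 hd (this ▸ hp)
  by_contra hne
  let T : Ideal B := Ideal.torsionOf B B (x - y)
  have hT : T ≠ ⊤ := fun e => hne (sub_eq_zero.1 ((Ideal.torsionOf_eq_top_iff B (x - y)).1 e))
  have hzT : z ∈ T.radical := by
    rw [Ideal.radical_eq_sInf]
    refine Submodule.mem_sInf.2 fun P ⟨hP, hPp⟩ => ?_
    by_contra hzP
    obtain ⟨k, hk⟩ := hf.cov ⟨P, hPp⟩ fun e => hzP ((congrArg PrimeSpectrum.asIdeal e).ge hz)
    obtain ⟨n, hn⟩ := (algebraMap_eq_iff _ _ _).1 (h k)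
    exact hk (hPp.mem_of_pow_mem n (hP ((Ideal.mem_torsionOf_iff (x - y) (f k ^ n)).2
      (by rw [smul_eq_mul, mul_sub, hn, sub_self]))))
  obtain ⟨n, hn⟩ := hzT
  rw [Ideal.mem_torsionOf_iff] at hn
  exact hne (sub_eq_zero.1 ((hreg.pow n) (show z ^ n • (x - y) = z ^ n • (0 : B) by simp [← smul_eq_mul, hn])))

omit [IsLocalRing B] [IsNoetherianRing B] in
/-- A large power of each member of the cover kills an additive class. -/
theorem exists_bound [Fintype K] {f : K → B} {c : ∀ k l, Ov (f k * f l)} (hc : IsAddCocycle f c) (j : K) :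
    ∃ M : ℕ, ∀ N, M ≤ N → ∃ b : ∀ k, Ov (f k),
      ∀ k l, algebraMap B (Ov (f k * f l)) (f j ^ N) * c k l = r₂ f k l (b l) - r₁ f k l (b k) := by
  classical
  have hex : ∀ l, ∃ (M : ℕ) (b : Ov (f l)), res _ (f j * f l) (dvd_mul_left _ _) b =
      algebraMap B (Ov (f j * f l)) (f j ^ M) * c j l := by
    intro l
    obtain ⟨A, M, e⟩ := exists_rep _ (c j l)
    obtain ⟨u, hu⟩ := unit_pow (f l) M
    refine ⟨M, algebraMap B (Ov (f l)) A * (u⁻¹ : (Ov (f l))ˣ), ?_⟩
    refine (unit_pow (f j * f l) M).mul_left_injective ?_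
    show _ * _ = _ * _
    have h1 : res (f l) (f j * f l) (dvd_mul_left _ _) (algebraMap B (Ov (f l)) A * (u⁻¹ : (Ov (f l))ˣ)) *
        algebraMap B (Ov (f j * f l)) (f l) ^ M = algebraMap B (Ov (f j * f l)) A := by
      have h0 : res (f l) (f j * f l) (dvd_mul_left _ _) (algebraMap B (Ov (f l)) (f l)) =
          algebraMap B (Ov (f j * f l)) (f l) := mv_algebraMap _ _ _ _ _
      rw [← h0, ← map_pow, ← map_mul, mul_assoc, ← hu, Units.inv_mul, mul_one, mv_algebraMap, RingHom.id_apply]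
    rw [mul_assoc (algebraMap B (Ov (f j * f l)) (f j ^ M)), e, map_mul (algebraMap B (Ov (f j * f l))), mul_pow,
      ← mul_assoc, mul_right_comm, mul_comm (res _ _ _ _) (_ ^ M), ← h1, map_pow]
    ring
  choose M b hb using hex
  have hw : ∀ k l, ∃ P : ℕ, ∀ N, M k + M l + P ≤ N →
      algebraMap B (Ov (f k * f l)) (f j ^ N) * c k l =
        algebraMap B _ (f j ^ (N - M l)) * r₂ f k l (b l) - algebraMap B _ (f j ^ (N - M k)) * r₁ f k l (b k) := by
    intro k l
    let N₀ := M k + M l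
    let W := algebraMap B (Ov (f k * f l)) (f j ^ N₀) * c k l -
      (algebraMap B _ (f j ^ M k) * r₂ f k l (b l) - algebraMap B _ (f j ^ M l) * r₁ f k l (b k))
    obtain ⟨P, hP⟩ : ∃ P, algebraMap B (Ov (f k * f l)) (f j) ^ P * W = 0 := by
      refine exists_pow_mul_eq_zero_of_res (dvd_mul_right _ _) ?_
      have h3 := congrArg (res _ (f k * f l * f j) ⟨1, by ring⟩) (hc j k l)
      have hk := congrArg (res _ (f k * f l * f j) ⟨f l, by ring⟩) (hb k)
      have hl := congrArg (res _ (f k * f l * f j) ⟨f k, by ring⟩) (hb l)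
      simp only [map_add, map_mul, mv_mv, mv_algebraMap, RingHom.id_apply, RingHom.comp_id] at h3 hk hl
      simp only [W, N₀, map_sub, map_mul, map_pow, pow_add, mv_mv, mv_algebraMap, RingHom.id_apply,
        RingHom.comp_id] at hk hl ⊢
      rw [hk, hl, ← h3]
      ring
    refine ⟨P, fun N hN => ?_⟩
    obtain ⟨r, rfl⟩ := Nat.exists_eq_add_of_le hN
    rw [show M k + M l + P + r - M l = M k + P + r by omega, show M k + M l + P + r - M k = M l + P + r by omega]
    simp only [W, N₀, map_mul, map_pow, pow_add] at hP ⊢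
    linear_combination algebraMap B (Ov (f k * f l)) (f j) ^ r * hP
  choose P hP using hw
  refine ⟨∑ k, ∑ l, (M k + M l + P k l), fun N hN => ⟨fun k => algebraMap B _ (f j ^ (N - M k)) * b k, fun k l => ?_⟩⟩
  rw [hP k l N (le_trans ((Finset.single_le_sum (f := fun l => M k + M l + P k l) (fun _ _ => Nat.zero_le _)
    (Finset.mem_univ l)).trans (Finset.single_le_sum (f := fun k => ∑ l, (M k + M l + P k l))
      (fun _ _ => Nat.zero_le _) (Finset.mem_univ k))) hN)]
  simp only [map_mul, mv_algebraMap, RingHom.id_apply]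

/-- In depth three additive classes on the punctured spectrum vanish. -/
theorem exists_coboundary (hd : (3 : ℕ∞) ≤ LocCoh.depth B B) [Fintype K] {f : K → B} (hf : IsCover f)
    {c : ∀ k l, Ov (f k * f l)} (hc : IsAddCocycle f c) :
    ∃ b : ∀ k, Ov (f k), ∀ k l, c k l = r₂ f k l (b l) - r₁ f k l (b k) := by
  classical
  obtain ⟨x₀, hx₀, hreg₀⟩ := (Alg6.exists_isSMulRegular_mem_iff (M := B) (maximalIdeal B)).mpr fun p hp hle => by
    have := (maximalIdeal.isMaximal B).eq_of_le (IsAssociatedPrime.isPrime hp).ne_top hle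
    exact Alg6.one_le_depth_iff.1 (le_trans (by norm_num) hd) (this ▸ hp)
  choose M hM using exists_bound hc
  let N := ∑ j, M j
  choose b hb using fun j => hM j N (Finset.single_le_sum (fun _ _ => Nat.zero_le _) (Finset.mem_univ j))
  have hrad : x₀ ∈ (Ideal.span (Set.range fun j => f j ^ N)).radical := by
    rw [Ideal.radical_eq_sInf]
    refine Submodule.mem_sInf.2 fun P ⟨hP, hPp⟩ => ?_
    by_contra hxP
    obtain ⟨k, hk⟩ := hf.cov ⟨P, hPp⟩ fun e => hxP ((congrArg PrimeSpectrum.asIdeal e).ge hx₀)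
    exact hk (hPp.mem_of_pow_mem N (hP (Ideal.subset_span ⟨k, rfl⟩)))
  obtain ⟨p, hp⟩ := hrad
  let x := x₀ ^ (p + 1)
  have hxmem : x ∈ Ideal.span (Set.range fun j => f j ^ N) := by
    simp only [x, pow_succ]
    exact Ideal.mul_mem_right _ _ hp
  obtain ⟨w, hw⟩ := Ideal.mem_span_range_iff_exists_fun.1 hxmem
  let β : ∀ k, Ov (f k) := fun k => ∑ j, algebraMap B _ (w j) * b j k
  have hβ : ∀ k l, algebraMap B _ x * c k l = r₂ f k l (β l) - r₁ f k l (β k) := fun k l => by
    simp only [β, map_sum, map_mul, mv_algebraMap, RingHom.id_apply]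
    rw [← hw, map_sum, Finset.sum_mul, ← Finset.sum_sub_distrib]
    refine Finset.sum_congr rfl fun j _ => ?_
    rw [map_mul, mul_assoc, hb j k l, mul_sub]
  have hreg : IsSMulRegular B x := hreg₀.pow _
  have hxm : x ∈ maximalIdeal B := Ideal.pow_mem_of_mem _ hx₀ _ (Nat.succ_pos _)
  haveI : Nontrivial (B ⧸ Ideal.span {x}) :=
    Ideal.Quotient.nontrivial_iff.2 fun e => (maximalIdeal.isMaximal B).ne_top
      (top_le_iff.1 (e ▸ (Ideal.span_singleton_le_iff_mem _).2 hxm))
  haveI : IsLocalRing (B ⧸ Ideal.span {x}) := .of_surjective' (Ideal.Quotient.mk _) Ideal.Quotient.mk_surjective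
  haveI : IsLocalHom (Ideal.Quotient.mk (Ideal.span {x})) :=
    IsLocalHom.of_surjective _ Ideal.Quotient.mk_surjective
  let π := Ideal.Quotient.mk (Ideal.span {x})
  let g : K → B ⧸ Ideal.span {x} := fun k => π (f k)
  have hg : IsCover g := isCover_push π (fun P hP => PrimeSpectrum.ext
    (le_antisymm (le_maximalIdeal P.isPrime.ne_top) (by
      show maximalIdeal _ ≤ _
      rw [← IsLocalRing.map_maximalIdeal_of_surjective π Ideal.Quotient.mk_surjective]
      exact Ideal.map_le_iff_le_comap.2 hP))) (fun _ => rfl) hf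
  have hd2 : (2 : ℕ∞) ≤ LocCoh.depth (B ⧸ Ideal.span {x}) (B ⧸ Ideal.span {x}) :=
    (depth_quotient_succ hxm hreg 2).2 hd
  have hx0 : ∀ h : B ⧸ Ideal.span {x}, algebraMap (B ⧸ Ideal.span {x}) (Ov h) (π x) = 0 := fun h => by
    rw [Ideal.Quotient.eq_zero_iff_mem.2 (Ideal.mem_span_singleton_self x), map_zero]
  obtain ⟨z, hz⟩ := exists_glue hd2 hg (pushF π g (fun _ => rfl) β) fun k l => by
    have := congrArg (mv π _ _ (dL π (g := g) (fun _ => rfl) k l)) (hβ k l)
    rw [map_mul, mv_algebraMap, hx0, zero_mul, map_sub,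
      mv_res_eq π _ (dL π (g := g) (fun _ => rfl) k l) dvd_rfl (dvd_mul_left _ _),
      mv_res_eq π _ (dL π (g := g) (fun _ => rfl) k l) dvd_rfl (dvd_mul_right _ _)] at this
    exact sub_eq_zero.1 this.symm
  obtain ⟨n, rfl⟩ := Ideal.Quotient.mk_surjective z
  have hdiv : ∀ k, ∃ y, β k - algebraMap B _ n = algebraMap B _ x * y := fun k =>
    exists_eq_algebraMap_mul π Ideal.Quotient.mk_surjective x Ideal.mk_ker (f k) (g k) rfl (by
      rw [map_sub, mv_algebraMap, hz k, sub_eq_zero]; rfl)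
  choose y hy using hdiv
  refine ⟨y, fun k l => sub_eq_zero.1 (regular_algebraMap (f k * f l) hreg ?_)⟩
  have h1 := congrArg (r₂ f k l) (hy l)
  have h2 := congrArg (r₁ f k l) (hy k)
  simp only [map_sub, map_mul, mv_algebraMap, RingHom.id_apply] at h1 h2
  linear_combination hβ k l + h1 - h2

end Depth

end Groth.Agent.PicU24
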