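import Groth.Agent.PicU24.Cocycle
import Mathlib.RingTheory.Flat.EquationalCriterion

/-!
# Descent of trivializations along faithfully flat local maps
-/

set_option autoImplicit false
set_option linter.style.haveILetI false
universe u

open IsLocalRing

namespace Groth.Agent.PicU24

variable {B C : Type u} [CommRing B] [CommRing C] {K : Type u}

/-- Solutions of a linear system over a flat algebra are combinations of solutions over the ring. -/
theorem exists_solutions [Algebra B C] [Module.Flat B C] [Fintype K] {R : Type u} [Fintype R]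
    (M : R → K → B) (v : K → C) (hv : ∀ r, ∑ k, algebraMap B C (M r k) * v k = 0) :
    ∃ (n : ℕ) (w : Fin n → K → B) (c : Fin n → C),
      (∀ i r, ∑ k, M r k * w i k = 0) ∧ ∀ k, v k = ∑ i, c i * algebraMap B C (w i k) := by
  classical
  let x : (K → B) →ₗ[B] C := Fintype.linearCombination B v
  let f : (R → B) →ₗ[B] (K → B) := Fintype.linearCombination B M
  have hxf : x ∘ₗ f = 0 := (Pi.basisFun B R).ext fun r => by
    rw [Pi.basisFun_apply, LinearMap.comp_apply, LinearMap.zero_apply]
    show x (f (Pi.single r 1)) = 0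
    rw [show f (Pi.single r 1) = M r by simp [f, Fintype.linearCombination_apply_single],
      show x (M r) = ∑ k, M r k • v k from Fintype.linearCombination_apply B v (M r), ← hv r]
    exact Finset.sum_congr rfl fun k _ => Algebra.smul_def _ _
  obtain ⟨n, a, y, hxy, haf⟩ := Module.Flat.exists_factorization_of_comp_eq_zero_of_free hxf
  refine ⟨n, fun i k => a (Pi.single k 1) i, fun i => y (Finsupp.single i 1), fun i r => ?_, fun k => ?_⟩
  · have h1 : a (M r) i = 0 := by
      have := LinearMap.congr_fun haf (Pi.single r 1)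
      rw [LinearMap.comp_apply, show f (Pi.single r 1) = M r by simp [f, Fintype.linearCombination_apply_single]] at this
      rw [this]; rfl
    rw [← h1]
    have h2 : M r = ∑ k, M r k • Pi.single k (1 : B) := by
      ext j; simp [Finset.sum_apply, Pi.single_apply]
    conv_rhs => rw [h2, map_sum, Finsupp.finset_sum_apply]
    exact Finset.sum_congr rfl fun k _ => by rw [map_smul, Finsupp.smul_apply, smul_eq_mul]
  · have h1 : x (Pi.single k 1) = v k := by simp [x, Fintype.linearCombination_apply_single]
    rw [← h1, hxy, LinearMap.comp_apply]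
    have h2 : a (Pi.single k 1) = ∑ i, a (Pi.single k 1) i • Finsupp.single i (1 : B) := by
      ext j; simp [Finsupp.finset_sum_apply, Finsupp.single_apply]
    conv_lhs => rw [h2, map_sum]
    exact Finset.sum_congr rfl fun i _ => by rw [map_smul, Algebra.smul_def, mul_comm]

/-- Trivializations descend along faithfully flat local maps. -/
theorem triv_of_flat [IsLocalRing C] [IsNoetherianRing C] [Algebra B C] [Module.FaithfullyFlat B C] [Fintype K]
    (hd : (2 : ℕ∞) ≤ LocCoh.depth C C) {f : K → B} {g : K → C} (hg : ∀ k, algebraMap B C (f k) = g k)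
    (hcov : IsCover g) {t : ∀ k l, Ov (f k * f l)}
    (h : Triv g (push (algebraMap B C) g hg t)) : Triv f t := by
  classical
  obtain ⟨a, ha, hu⟩ := h
  choose N₁ hN₁ using fun k => exists_rep_of_le (g k) (a k)
  choose N₂ hN₂ using fun q : K × K => exists_rep_of_le (f q.1 * f q.2) (t q.1 q.2)
  let N := ∑ k, N₁ k + ∑ q, N₂ q
  choose A hA using fun k => hN₁ k N (le_trans (Finset.single_le_sum (fun _ _ => Nat.zero_le _) (Finset.mem_univ k)) (Nat.le_add_right _ _))
  choose T hT using fun q : K × K => hN₂ q N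
    (le_trans (Finset.single_le_sum (fun _ _ => Nat.zero_le _) (Finset.mem_univ q)) (Nat.le_add_left _ _))
  have key : ∀ {D : Type u} [CommRing D] (φ : B →+* D) (h : K → D) (hh : ∀ k, φ (f k) = h k)
      (b : ∀ k, Ov (h k)) (Bn : K → D), (∀ k, b k * algebraMap D (Ov (h k)) (h k) ^ N = algebraMap D _ (Bn k)) →
      ∀ k l, (r₂ h k l (b l) = r₁ h k l (b k) * push φ h hh t k l ↔
        algebraMap D (Ov (h k * h l)) (h k ^ (N + N) * h l ^ N * Bn l) =
          algebraMap D (Ov (h k * h l)) (h l ^ N * φ (T (k, l)) * Bn k)) := by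
    intro D _ φ h hh b Bn hB k l
    have h1 := congrArg (r₁ h k l) (hB k)
    have h2 := congrArg (r₂ h k l) (hB l)
    have h3 := congrArg (mv φ _ (h k * h l) (dL φ hh k l)) (hT (k, l))
    simp only [r₁, r₂, map_mul, map_pow, res_algebraMap] at h1 h2
    rw [map_mul, map_pow, mv_algebraMap, mv_algebraMap, map_mul φ, hh, hh] at h3
    change push φ h hh t k l * _ = _ at h3
    simp only [r₁, r₂, map_mul, map_pow, ← h1, ← h2, ← h3]
    rw [← (unit_pow (h k * h l) (N + N)).mul_left_inj (b := res (h l) (h k * h l) _ (b l))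
      (c := res (h k) (h k * h l) _ (b k) * push φ h hh t k l), map_mul]
    constructor <;> intro e <;> linear_combination e
  have hex : ∀ q : K × K, ∃ P : ℕ,
      (g q.1 * g q.2) ^ P * (g q.1 ^ (N + N) * g q.2 ^ N * A q.2) =
        (g q.1 * g q.2) ^ P * (g q.2 ^ N * algebraMap B C (T q) * A q.1) := fun q =>
    (algebraMap_eq_iff _ _ _).1 ((key (algebraMap B C) g hg a A hA q.1 q.2).1 (ha q.1 q.2))
  choose P hP using hex
  let M : K × K → K → B := fun q j =>
    (if j = q.2 then (f q.1 * f q.2) ^ P q * (f q.1 ^ (N + N) * f q.2 ^ N) else 0) -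
      (if j = q.1 then (f q.1 * f q.2) ^ P q * (f q.2 ^ N * T q) else 0)
  have hM : ∀ (w : K → C) (q : K × K), ∑ j, algebraMap B C (M q j) * w j =
      (g q.1 * g q.2) ^ P q * (g q.1 ^ (N + N) * g q.2 ^ N * w q.2) -
        (g q.1 * g q.2) ^ P q * (g q.2 ^ N * algebraMap B C (T q) * w q.1) := by
    intro w q
    simp only [M, map_sub, sub_mul, Finset.sum_sub_distrib, apply_ite (algebraMap B C), map_zero, ite_mul, zero_mul,
      Finset.sum_ite_eq', Finset.mem_univ, if_true, map_mul, map_pow, hg]
    ring
  obtain ⟨n, w, c, hw, hc⟩ := exists_solutions M A fun q => by rw [hM, hP q, sub_self]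
  choose u hu' using fun k => unit_pow (f k) N
  let s : Fin n → ∀ k, Ov (f k) := fun i k => algebraMap B (Ov (f k)) (w i k) * ((u k)⁻¹ : (Ov (f k))ˣ)
  have hs : ∀ i k, s i k * algebraMap B (Ov (f k)) (f k) ^ N = algebraMap B _ (w i k) := fun i k => by
    simp only [s]; rw [mul_assoc, ← hu' k, Units.inv_mul, mul_one]
  have hsec : ∀ i, IsSect f t (s i) := fun i k l => by
    have hk := key (RingHom.id B) f (fun _ => rfl) (s i) (w i) (hs i) k l
    have hid : push (RingHom.id B) f (fun _ => rfl) t k l = t k l := mv_id _ _ _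
    rw [hid] at hk
    refine hk.2 ((algebraMap_eq_iff _ _ _).2 ⟨P (k, l), ?_⟩)
    have := hw i (k, l)
    simp only [M, sub_mul, Finset.sum_sub_distrib, ite_mul, zero_mul, Finset.sum_ite_eq', Finset.mem_univ,
      if_true, RingHom.id_apply] at this ⊢
    linear_combination this
  -- each solution is a multiple of the trivialization
  let φ := algebraMap B C
  have hmul : ∀ i, ∃ d : C, ∀ k, algebraMap C (Ov (g k)) d * a k = pushF φ g hg (s i) k := by
    intro i
    choose ua hua using hu
    obtain ⟨d, hd'⟩ := exists_glue hd hcov (fun k => pushF φ g hg (s i) k * ((ua k)⁻¹ : (Ov (g k))ˣ)) fun k l => by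
      refine ((ua l).isUnit.map (r₂ g k l)).mul_left_injective ?_
      show _ * _ = _ * _
      rw [← map_mul, mul_assoc, Units.inv_mul, mul_one, isSect_push φ hg (hsec i) k l]
      have hl := ha k l
      rw [← hua l, ← hua k] at hl
      rw [hl, ← mul_assoc, ← map_mul (r₁ g k l), mul_assoc (pushF φ g hg (s i) k), Units.inv_mul, mul_one]
    exact ⟨d, fun k => by rw [hd' k, ← hua k, mul_assoc, Units.inv_mul, mul_one]⟩
  choose d hd' using hmul
  have hws : ∀ i k, pushF φ g hg (s i) k * algebraMap C (Ov (g k)) (g k) ^ N =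
      algebraMap C _ (φ (w i k)) := fun i k => by
    have := congrArg (mv φ (f k) (g k) (hg k ▸ dvd_rfl)) (hs i k)
    simp only [map_mul, map_pow, mv_algebraMap] at this
    simp only [φ, hg] at this ⊢
    exact this
  have hsum : ∀ k, algebraMap C (Ov (g k)) (∑ i, c i * d i) = 1 := fun k => by
    refine ((hu k).mul (unit_pow (g k) N)).mul_left_injective ?_
    show _ * _ = _ * _
    rw [one_mul]
    conv_rhs => rw [hA k, hc k, map_sum]
    rw [map_sum, Finset.sum_mul]
    refine Finset.sum_congr rfl fun i _ => ?_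
    have := hws i k
    rw [← hd' i k] at this
    show algebraMap C _ (c i * d i) * _ = algebraMap C _ (c i * φ (w i k))
    rw [map_mul, map_mul, ← this]
    ring
  have h1 : ∑ i, c i * d i = 1 := eq_of_forall_algebraMap_eq (le_trans (by norm_num) hd) hcov fun k => by
    rw [hsum k, map_one]
  obtain ⟨i, hi⟩ : ∃ i, IsUnit (d i) := by
    by_contra hne
    simp only [not_exists] at hne
    exact (maximalIdeal.isMaximal C).ne_top ((Ideal.eq_top_iff_one _).2 (h1 ▸ Ideal.sum_mem _ fun i _ =>
      Ideal.mul_mem_left _ _ ((mem_maximalIdeal _).2 (hne i))))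
  refine ⟨s i, hsec i, fun k => ?_⟩
  have hk : IsUnit (pushF φ g hg (s i) k) := hd' i k ▸ (hi.map _).mul (hu k)
  have hrad : f k ∈ (Ideal.span {w i k}).radical := by
    rw [← Ideal.comap_map_eq_self_of_faithfullyFlat (B := C) (Ideal.span {w i k}), ← Ideal.comap_radical, Ideal.mem_comap,
      Ideal.map_span, Set.image_singleton, hg]
    obtain ⟨b, hb⟩ := hk.exists_right_inv
    obtain ⟨β, m, hβ⟩ := exists_rep (g k) b
    have h2 := hws i k
    have h3 : algebraMap C (Ov (g k)) (φ (w i k) * β) = algebraMap C _ (g k ^ (N + m)) := by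
      rw [map_mul, ← h2, ← hβ, map_pow, pow_add]
      linear_combination algebraMap C (Ov (g k)) (g k) ^ N * algebraMap C (Ov (g k)) (g k) ^ m * hb
    obtain ⟨p, hp⟩ := (algebraMap_eq_iff _ _ _).1 h3
    exact ⟨p + (N + m), Ideal.mem_span_singleton'.2 ⟨g k ^ p * β, by rw [pow_add]; linear_combination hp⟩⟩
  obtain ⟨m, hm⟩ := hrad
  obtain ⟨b, hb⟩ := Ideal.mem_span_singleton'.1 hm
  refine isUnit_of_mul_isUnit_left (y := algebraMap B _ b * algebraMap B _ (f k) ^ N) ?_
  have : s i k * (algebraMap B _ b * algebraMap B _ (f k) ^ N) = algebraMap B _ (f k) ^ m := by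
    rw [← map_pow (algebraMap B (Ov (f k))) (f k) m, ← hb, map_mul, ← hs i k]; ring
  rw [this]
  exact unit_pow (f k) m

end Groth.Agent.PicU24
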