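import Groth.Agent.PicU24.Cocycle

/-!
# Lifting trivializations across a square zero element
-/

set_option autoImplicit false
set_option linter.style.haveILetI false
universe u

open IsLocalRing

namespace Groth.Agent.PicU24

variable {R C R₀ : Type u} [CommRing R] [CommRing C] [CommRing R₀] {K : Type u}

theorem algebraMap_mul_eq_zero_iff (ψ : R →+* R₀) (hψ : Function.Surjective ψ) (ε : R)
    (hann : ∀ x, ε * x = 0 ↔ ψ x = 0) (g : R) (h : R₀) (e : ψ g = h) (x : Ov g) :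
    algebraMap R (Ov g) ε * x = 0 ↔ mv ψ g h (e ▸ dvd_rfl) x = 0 := by
  constructor
  · intro hx
    obtain ⟨a, n, ha⟩ := exists_rep g x
    have h1 : algebraMap R (Ov g) (ε * a) = algebraMap R (Ov g) 0 := by
      rw [map_mul, ← ha, ← mul_assoc, hx, zero_mul, map_zero]
    obtain ⟨m, hm⟩ := (algebraMap_eq_iff _ _ _).1 h1
    have h2 : ψ (g ^ m * a) = 0 := (hann _).1 (by linear_combination hm)
    subst e
    have h4 : algebraMap R₀ (Ov (ψ g)) (ψ a) = algebraMap R₀ (Ov (ψ g)) 0 :=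
      (algebraMap_eq_iff _ _ _).2 ⟨m, by rw [mul_zero, ← map_pow, ← map_mul, h2]⟩
    have h3 := congrArg (mv ψ g (ψ g) dvd_rfl) ha
    rw [map_mul, map_pow, mv_algebraMap, mv_algebraMap, h4, map_zero] at h3
    exact (unit_pow (ψ g) n).mul_left_eq_zero.1 h3
  · intro hx
    have hmem := mem_of_mv_eq_zero ψ hψ g h e hx
    have hle : (RingHom.ker ψ).map (algebraMap R (Ov g)) ≤ Ideal.torsionOf (Ov g) (Ov g) (algebraMap R (Ov g) ε) :=
      Ideal.map_le_iff_le_comap.2 fun a ha => by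
        rw [Ideal.mem_comap, Ideal.mem_torsionOf_iff, smul_eq_mul, ← map_mul, mul_comm a, (hann a).2 (RingHom.mem_ker.1 ha),
          map_zero]
    have := (Ideal.mem_torsionOf_iff _ _).1 (hle hmem)
    rwa [smul_eq_mul, mul_comm] at this

theorem isUnit_of_isUnit_mv (φ : R →+* C) (hφ : Function.Surjective φ) (g : R) (h : C) (e : φ g = h)
    (hnil : ∀ x ∈ RingHom.ker φ, IsNilpotent x) {x : Ov g} (hx : IsUnit (mv φ g h (e ▸ dvd_rfl) x)) : IsUnit x := by
  obtain ⟨u, hu⟩ := hx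
  obtain ⟨y, hy⟩ := mv_surjective φ hφ g h e (u⁻¹ : (Ov h)ˣ)
  have h0 : x * y - 1 ∈ (RingHom.ker φ).map (algebraMap R (Ov g)) :=
    mem_of_mv_eq_zero φ hφ g h e (by rw [map_sub, map_mul, hy, ← hu, Units.mul_inv, map_one, sub_self])
  have h1 : (RingHom.ker φ).map (algebraMap R (Ov g)) ≤ nilradical (Ov g) :=
    Ideal.map_le_iff_le_comap.2 fun a ha => (hnil a ha).map _
  have h2 := (mem_nilradical.1 (h1 h0)).isUnit_one_add
  rw [add_sub_cancel] at h2
  exact isUnit_of_mul_isUnit_left h2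

/-- A trivialization modulo a square zero element lifts when the annihilated quotient has depth three. -/
theorem exists_lift [IsLocalRing R₀] [IsNoetherianRing R₀] [Fintype K]
    (φ : R →+* C) (hφ : Function.Surjective φ) (ψ : R →+* R₀) (hψ : Function.Surjective ψ) (ε : R)
    (hker : RingHom.ker φ = Ideal.span {ε}) (hann : ∀ x, ε * x = 0 ↔ ψ x = 0) (hε : ψ ε = 0)
    (hd : (3 : ℕ∞) ≤ LocCoh.depth R₀ R₀) {f : K → R} {g : K → C} (hg : ∀ k, φ (f k) = g k)
    {f₀ : K → R₀} (hf₀ : ∀ k, ψ (f k) = f₀ k) (hcov : IsCover f₀)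
    {t : ∀ k l, Ov (f k * f l)} (ht : IsCocycle f t) {a₀ : ∀ k, Ov (g k)} (ha₀ : IsSect g (push φ g hg t) a₀)
    (hu₀ : ∀ k, IsUnit (a₀ k)) :
    ∃ a : ∀ k, Ov (f k), IsSect f t a ∧ (∀ k, IsUnit (a k)) ∧ pushF φ g hg a = a₀ := by
  classical
  have hεε : ε * ε = 0 := (hann ε).2 hε
  have hnil : ∀ x ∈ RingHom.ker φ, IsNilpotent x := fun x hx => by
    rw [hker, Ideal.mem_span_singleton'] at hx
    obtain ⟨r, rfl⟩ := hx
    exact ⟨2, by linear_combination r ^ 2 * hεε⟩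
  have hmul : ∀ k l, φ (f k * f l) = g k * g l := fun k l => by rw [map_mul, hg, hg]
  choose â hâ using fun k => mv_surjective φ hφ (f k) (g k) (hg k) (a₀ k)
  have hâu : ∀ k, IsUnit (â k) := fun k =>
    isUnit_of_isUnit_mv φ hφ (f k) (g k) (hg k) hnil ((hâ k).symm ▸ hu₀ k)
  have hu : ∀ k l, IsUnit (r₁ f k l (â k) * t k l) := fun k l => ((hâu k).map _).mul (ht.unit k l)
  have hc : ∀ k l, ∃ c : Ov (f k * f l),
      r₂ f k l (â l) = r₁ f k l (â k) * t k l * (1 + algebraMap R _ ε * c) := by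
    intro k l
    obtain ⟨y, hy⟩ := exists_eq_algebraMap_mul φ hφ ε hker (f k * f l) (g k * g l) (hmul k l)
      (x := r₂ f k l (â l) - r₁ f k l (â k) * t k l) (by
        rw [map_sub, RingHom.map_mul (mv φ _ _ _), mv_res_eq φ _ _ (hg l ▸ dvd_rfl) (dvd_mul_left _ _),
          mv_res_eq φ _ _ (hg k ▸ dvd_rfl) (dvd_mul_right _ _), hâ, hâ, sub_eq_zero]
        exact ha₀ k l)
    obtain ⟨u, hu'⟩ := hu k l
    refine ⟨(u⁻¹ : (Ov (f k * f l))ˣ) * y, ?_⟩
    rw [← hu'] at hy ⊢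
    linear_combination hy - algebraMap R _ ε * y * Units.mul_inv u
  choose c hc using hc
  have hadd : IsAddCocycle f₀ (push ψ f₀ hf₀ c) := by
    intro k l m
    let i₁ : Ov (f k * f l) →+* Ov (f k * f l * f m) := res _ _ (dvd_mul_right _ _)
    let i₂ : Ov (f l * f m) →+* Ov (f k * f l * f m) := res _ _ ⟨f k, by ring⟩
    let i₃ : Ov (f k * f m) →+* Ov (f k * f l * f m) := res _ _ ⟨f l, by ring⟩
    have h1 := congrArg i₁ (hc k l)
    have h2 := congrArg i₂ (hc l m)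
    have h3 := congrArg i₃ (hc k m)
    have h4 := ht.trans k l m
    have hU : IsUnit (i₃ (r₁ f k m (â k) * t k m)) := (hu k m).map _
    simp only [i₁, i₂, i₃, r₁, r₂, map_mul, map_add, map_one, res_res, res_algebraMap] at h1 h2 h3 h4 hU
    have hz : algebraMap R (Ov (f k * f l * f m)) ε * (i₁ (c k l) + i₂ (c l m) - i₃ (c k m)) = 0 := by
      refine hU.mul_right_eq_zero.1 ?_
      have he : algebraMap R (Ov (f k * f l * f m)) ε * algebraMap R (Ov (f k * f l * f m)) ε = 0 := by rw [← map_mul, hεε, map_zero]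
      simp only [i₁, i₂, i₃]
      linear_combination h3 - h2 - (res _ _ ⟨f k, by ring⟩ (t l m)) * (1 + algebraMap R (Ov (f k * f l * f m)) ε *
          (res _ _ ⟨f k, by ring⟩ (c l m))) * h1
        - (res (f k) (f k * f l * f m) ⟨f l * f m, by ring⟩ (â k)) *
          (1 + algebraMap R (Ov (f k * f l * f m)) ε * (res _ _ (dvd_mul_right _ _) (c k l))) *
          (1 + algebraMap R (Ov (f k * f l * f m)) ε * (res _ _ ⟨f k, by ring⟩ (c l m))) * h4
        - (res (f k) (f k * f l * f m) ⟨f l * f m, by ring⟩ (â k)) * (res _ _ ⟨f l, by ring⟩ (t k m)) *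
          (res _ _ (dvd_mul_right _ _) (c k l)) * (res _ _ ⟨f k, by ring⟩ (c l m)) * he
    have hm3 : ψ (f k * f l * f m) = f₀ k * f₀ l * f₀ m := by rw [map_mul, map_mul, hf₀, hf₀, hf₀]
    have h5 := (algebraMap_mul_eq_zero_iff ψ hψ ε hann _ _ hm3 _).1 hz
    simp only [i₁, i₂, i₃] at h5
    rw [map_sub, map_add, mv_res_eq ψ _ _ (dL ψ hf₀ k l) (dvd_mul_right _ _),
      mv_res_eq ψ _ _ (dL ψ hf₀ l m) ⟨f₀ k, by ring⟩,
      mv_res_eq ψ _ _ (dL ψ hf₀ k m) ⟨f₀ l, by ring⟩, sub_eq_zero] at h5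
    exact h5
  obtain ⟨b₀, hb₀⟩ := exists_coboundary hd hcov hadd
  choose b hb using fun k => mv_surjective ψ hψ (f k) (f₀ k) (hf₀ k) (b₀ k)
  refine ⟨fun k => â k * (1 - algebraMap R _ ε * b k), fun k l => ?_, fun k => ?_, funext fun k => ?_⟩
  · have h0 : algebraMap R (Ov (f k * f l)) ε * (c k l - (r₂ f k l (b l) - r₁ f k l (b k))) = 0 := by
      refine (algebraMap_mul_eq_zero_iff ψ hψ ε hann _ _ (by rw [map_mul, hf₀, hf₀] : ψ (f k * f l) = f₀ k * f₀ l) _).2 ?_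
      rw [map_sub, map_sub, mv_res_eq ψ _ _ (hf₀ l ▸ dvd_rfl) (dvd_mul_left _ _),
        mv_res_eq ψ _ _ (hf₀ k ▸ dvd_rfl) (dvd_mul_right _ _), hb, hb, sub_eq_zero]
      exact hb₀ k l
    have he : algebraMap R (Ov (f k * f l)) ε * algebraMap R _ ε = 0 := by rw [← map_mul, hεε, map_zero]
    simp only [map_mul, map_sub, map_one, mv_algebraMap, RingHom.id_apply]
    linear_combination (1 - algebraMap R (Ov (f k * f l)) ε * r₂ f k l (b l)) * hc k l +
      r₁ f k l (â k) * t k l * h0 - r₁ f k l (â k) * t k l * c k l * r₂ f k l (b l) * he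
  · refine (hâu k).mul ?_
    rw [sub_eq_add_neg]
    refine IsNilpotent.isUnit_one_add ⟨2, ?_⟩
    rw [neg_sq, mul_pow, sq (algebraMap R _ ε), ← map_mul, hεε, map_zero, zero_mul]
  · show mv φ _ _ _ _ = a₀ k
    have hφε : φ ε = 0 := RingHom.mem_ker.1 (hker ▸ Ideal.mem_span_singleton_self ε)
    rw [map_mul, map_sub, map_one, map_mul, mv_algebraMap, hφε, map_zero, zero_mul, sub_zero, mul_one, hâ]

end Groth.Agent.PicU24
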