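import Groth.Agent.PicU24.Descend
import Groth.Agent.PicU24.Tower
import Groth.Agent.S0546
import Groth.Agent.S5810
import Groth.Agent.CILib.Basic
import Groth.Agent.LC.DepthLoc
import Groth.Agent.FlatLoc6.Depth
import Groth.Agent.RamSam24.Ext
import Groth.Agent.RamSam24.FSPara

/-!
# Invertible cocycles on the punctured spectrum of a flat local algebra
-/

set_option autoImplicit false
set_option linter.style.haveILetI false
universe u

open IsLocalRing TensorProduct

namespace Groth.Agent.PicU24

/-- Colons commute with flat extension. -/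
theorem mem_colon_map {A B : Type u} [CommRing A] [CommRing B] [Algebra A B] [Module.Flat A B] [IsNoetherianRing A]
    (I J : Ideal A) (x : A) (hJ : ∀ w, x * w ∈ I → w ∈ J) {r : B}
    (h : algebraMap A B x * r ∈ I.map (algebraMap A B)) : r ∈ J.map (algebraMap A B) := by
  classical
  obtain ⟨s, hs⟩ := IsNoetherian.noetherian I
  rw [← hs, Ideal.map_span] at h
  have h' : algebraMap A B x * r ∈ Ideal.span (Set.range fun i : s => algebraMap A B i.1) := by
    convert! h using 2; ext y; simp
  obtain ⟨c, hc⟩ := Ideal.mem_span_range_iff_exists_fun.1 h'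
  obtain ⟨n, w, d, hw, hd⟩ := exists_solutions (R := PUnit.{u + 1}) (K := Option s)
    (fun _ o => o.elim x fun i => -i.1) (fun o => o.elim r c) fun _ => by
      rw [Fintype.sum_option]
      simp only [Option.elim_none, Option.elim_some, map_neg, neg_mul, Finset.sum_neg_distrib]
      rw [← hc, ← sub_eq_add_neg, sub_eq_zero]
      exact Finset.sum_congr rfl fun i _ => mul_comm _ _
  have hr : r = ∑ i, d i * algebraMap A B (w i none) := hd none
  rw [hr]
  refine Ideal.sum_mem _ fun i _ => Ideal.mul_mem_left _ _ (Ideal.mem_map_of_mem _ (hJ _ ?_))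
  have := hw i PUnit.unit
  rw [Fintype.sum_option] at this
  simp only [Option.elim_none, Option.elim_some, neg_mul, Finset.sum_neg_distrib, ← sub_eq_add_neg, sub_eq_zero] at this
  rw [this, ← hs]
  exact Ideal.sum_mem _ fun j _ => Ideal.mul_mem_right _ _ (Ideal.subset_span j.2)

/-- The depth of a localization as a module is its depth as a ring. -/
theorem depth_atPrime_self {B : Type u} [CommRing B] [IsNoetherianRing B] (p : Ideal B) [p.IsPrime] :
    LocCoh.depth (Localization.AtPrime p) (LocalizedModule p.primeCompl B) =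
      LocCoh.depth (Localization.AtPrime p) (Localization.AtPrime p) :=
  haveI : IsNoetherianRing (Localization.AtPrime p) := IsLocalization.isNoetherianRing p.primeCompl _ inferInstance
  LC.idealDepth_congr _ (LinearEquiv.extendScalarsOfIsLocalization p.primeCompl (Localization.AtPrime p)
    (IsLocalizedModule.iso p.primeCompl (Algebra.linearMap B (Localization.AtPrime p))))

/-- The depth of a local ring is at most the depth at a prime plus the dimension of the quotient. -/
theorem depth_le_atPrime_add {B : Type u} [CommRing B] [IsLocalRing B] [IsNoetherianRing B] (p : Ideal B) [p.IsPrime] :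
    ((LocCoh.depth B B : ℕ∞) : WithBot ℕ∞) ≤
      ((LocCoh.depth (Localization.AtPrime p) (Localization.AtPrime p) : ℕ∞) : WithBot ℕ∞) + ringKrullDim (B ⧸ p) := by
  haveI : IsNoetherianRing (Localization.AtPrime p) := IsLocalization.isNoetherianRing p.primeCompl _ inferInstance
  haveI : IsLocalRing (B ⧸ p) := .of_surjective' (Ideal.Quotient.mk p) Ideal.Quotient.mk_surjective
  have h := LC.depth_localized_le_add_height (R := B) (M := B) p (maximalIdeal B) (le_maximalIdeal Ideal.IsPrime.ne_top')
  rw [depth_atPrime_self, depth_atPrime_self,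
    IsLocalRing.map_maximalIdeal_of_surjective (Ideal.Quotient.mk p) Ideal.Quotient.mk_surjective] at h
  let e : B ≃+* Localization.AtPrime (maximalIdeal B) :=
    (IsLocalization.atUnits B (maximalIdeal B).primeCompl fun y hy => IsLocalRing.notMem_maximalIdeal.1 hy).toRingEquiv
  have he : LocCoh.depth (Localization.AtPrime (maximalIdeal B)) (Localization.AtPrime (maximalIdeal B)) =
      LocCoh.depth B B :=
    (RamSam24.depth_eq_of_ringEquiv e).symm
  rw [he] at h
  rw [← IsLocalRing.maximalIdeal_height_eq_ringKrullDim, ← WithBot.coe_add]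
  exact WithBot.coe_le_coe.2 h

/-- The depth hypothesis at the one dimensional points holds in depth three. -/
theorem two_le_depth_atPrime {B : Type u} [CommRing B] [IsLocalRing B] [IsNoetherianRing B]
    (hd : (3 : ℕ∞) ≤ LocCoh.depth B B) (p : PrimeSpectrum B) (h : ringKrullDim (B ⧸ p.asIdeal) = 1) :
    (2 : ℕ∞) ≤ LocCoh.depth (Localization.AtPrime p.asIdeal) (Localization.AtPrime p.asIdeal) := by
  have h1 := depth_le_atPrime_add p.asIdeal
  rw [h, ← WithBot.coe_one, ← WithBot.coe_add, WithBot.coe_le_coe] at h1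
  exact (ENat.addLECancellable_of_ne_top ENat.one_ne_top).add_le_add_iff_right.1
    (show (2 : ℕ∞) + 1 ≤ _ + 1 from le_trans hd h1)

variable {A B : Type u} [CommRing A] [CommRing B] [IsLocalRing A] [IsLocalRing B]
  [IsNoetherianRing A] [IsNoetherianRing B] [Algebra A B] [IsLocalHom (algebraMap A B)] [Module.Flat A B]

theorem map_ne_top {I : Ideal A} (hI : I ≤ maximalIdeal A) : I.map (algebraMap A B) ≠ ⊤ := fun e =>
  (maximalIdeal.isMaximal B).ne_top (top_le_iff.1 (e ▸ (Ideal.map_mono hI).trans
    (IsLocalRing.map_maximalIdeal_le (algebraMap A B))))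

/-- Depth of a flat algebra modulo an ideal of the base is at least the depth of the fibre. -/
theorem le_depth_quotient {n : ℕ} (I : Ideal A) (hI : I ≤ maximalIdeal A)
    [IsLocalRing (B ⧸ I.map (algebraMap A B))] [IsLocalRing (B ⧸ (maximalIdeal A).map (algebraMap A B))]
    (hd : (n : ℕ∞) ≤ LocCoh.depth (B ⧸ (maximalIdeal A).map (algebraMap A B)) (B ⧸ (maximalIdeal A).map (algebraMap A B))) :
    (n : ℕ∞) ≤ LocCoh.depth (B ⧸ I.map (algebraMap A B)) (B ⧸ I.map (algebraMap A B)) := by
  haveI : Nontrivial (A ⧸ I) := Ideal.Quotient.nontrivial_iff.2 fun e => (maximalIdeal.isMaximal A).ne_top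
    (top_le_iff.1 (e ▸ hI))
  haveI : IsLocalRing (A ⧸ I) := .of_surjective' (Ideal.Quotient.mk I) Ideal.Quotient.mk_surjective
  let C := B ⧸ I.map (algebraMap A B)
  haveI : IsLocalHom (algebraMap (A ⧸ I) C) := ⟨fun a ha => by
    obtain ⟨a, rfl⟩ := Ideal.Quotient.mk_surjective a
    by_contra h
    have h1 : a ∈ maximalIdeal A := (mem_maximalIdeal _).2 fun hu => h (hu.map _)
    have h2 : Ideal.Quotient.mk (I.map (algebraMap A B)) (algebraMap A B a) ∈ maximalIdeal C := by
      rw [← IsLocalRing.map_maximalIdeal_of_surjective (Ideal.Quotient.mk _) Ideal.Quotient.mk_surjective]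
      exact Ideal.mem_map_of_mem _ (map_nonunit (algebraMap A B) a h1)
    exact (mem_maximalIdeal _).1 h2 ha⟩
  haveI : Module.Flat (A ⧸ I) C := RingHom.flat_algebraMap_iff.1
    ((RamSam24.flat_quot_iff_quotientMap (C := B) I).1 ((NFlat6.flat_quot_iff I B).mpr inferInstance))
  refine LC.le_idealDepth_of_fibre (A := A ⧸ I) (B := C) (maximalIdeal C) (maximalIdeal.isMaximal C).ne_top n C ?_
  let J : Ideal C := (maximalIdeal (A ⧸ I)).map (algebraMap (A ⧸ I) C)
  have hJ : FlatLoc6.mN (A ⧸ I) C C = J := by simp [FlatLoc6.mN, J]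
  have hJ' : J = ((maximalIdeal A).map (algebraMap A B)).map (Ideal.Quotient.mk _) := by
    simp only [J]
    rw [← IsLocalRing.map_maximalIdeal_of_surjective (Ideal.Quotient.mk I) Ideal.Quotient.mk_surjective,
      Ideal.map_map, Ideal.map_map]
    rfl
  let φ : B ⧸ (maximalIdeal A).map (algebraMap A B) ≃+* C ⧸ J :=
    (DoubleQuot.quotQuotEquivQuotOfLE (Ideal.map_mono hI)).symm.trans (Ideal.quotEquivOfEq hJ'.symm)
  haveI : IsLocalRing (C ⧸ J) := φ.isLocalRing
  have h1 : (n : ℕ∞) ≤ LocCoh.depth (C ⧸ J) (C ⧸ J) := hd.trans_eq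
    (RamSam24.depth_eq_of_ringEquiv φ)
  rw [LC.idealDepth_congr _ (Submodule.quotEquivOfEq _ _ hJ), LC.idealDepth_quot_self_le,
    IsLocalRing.map_maximalIdeal_of_surjective (Ideal.Quotient.mk J) Ideal.Quotient.mk_surjective]
  exact h1

/-- Over a complete ring cocycles trivial on the closed fibre are trivial. -/
theorem triv_of_fibre_complete [IsAdicComplete (maximalIdeal B) B]
    [IsLocalRing (B ⧸ (maximalIdeal A).map (algebraMap A B))]
    (hd : (3 : ℕ∞) ≤ LocCoh.depth (B ⧸ (maximalIdeal A).map (algebraMap A B)) (B ⧸ (maximalIdeal A).map (algebraMap A B)))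
    {K : Type u} [Fintype K] {f : K → B} (hf : IsCover f) {T : ∀ k l, Ov (f k * f l)} (hT : IsCocycle f T)
    (h0 : Triv (fun k => Ideal.Quotient.mk ((maximalIdeal A).map (algebraMap A B)) (f k))
      (push (Ideal.Quotient.mk ((maximalIdeal A).map (algebraMap A B))) _ (fun _ => rfl) T)) : Triv f T := by
  classical
  let π : ∀ I : Ideal A, B →+* B ⧸ I.map (algebraMap A B) := fun I => Ideal.Quotient.mk _
  suffices key : ∀ I : Ideal A, I ≤ maximalIdeal A →
      Triv (fun k => π I (f k)) (push (π I) _ (fun _ => rfl) T) by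
    have h1 := key ⊥ bot_le
    let e : B ⧸ (⊥ : Ideal A).map (algebraMap A B) ≃+* B :=
      (Ideal.quotEquivOfEq (Ideal.map_bot)).trans (RingEquiv.quotientBot B)
    obtain ⟨a, ha, hu⟩ := h1
    refine ⟨pushF e.toRingHom f (f := fun k => π ⊥ (f k)) (fun _ => rfl) a, ?_, fun k => (hu k).map _⟩
    have h2 := isSect_push e.toRingHom (g := f) (fun _ => rfl) ha
    rwa [show push e.toRingHom f (fun _ => rfl) (push (π ⊥) (fun k => π ⊥ (f k)) (fun _ => rfl) T) = T from
      funext fun k => funext fun l => (mv_mv _ _ _ _ _ _ _ _).trans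
        ((mv_congr (show e.toRingHom.comp (π ⊥) = RingHom.id B from RingHom.ext fun _ => rfl) _ _ _ _).trans
          (mv_id _ _ _))] at h2
  intro I
  induction I using WellFoundedGT.induction with
  | _ I ih =>
    intro hI
    rcases hI.eq_or_lt with rfl | hlt
    · exact h0
    let R := B ⧸ I.map (algebraMap A B)
    haveI : Nontrivial R := Ideal.Quotient.nontrivial_iff.2 (map_ne_top hI)
    haveI : IsLocalRing R := .of_surjective' (π I) Ideal.Quotient.mk_surjective
    haveI : IsLocalHom (π I) := IsLocalHom.of_surjective _ Ideal.Quotient.mk_surjective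
    haveI : IsLocalHom (Ideal.Quotient.mk ((maximalIdeal A).map (algebraMap A B))) :=
      IsLocalHom.of_surjective _ Ideal.Quotient.mk_surjective
    have hsurjcover : ∀ {C : Type u} [CommRing C] [IsLocalRing C] (φ : B →+* C) [IsLocalHom φ],
        Function.Surjective φ → IsCover (fun k => φ (f k)) := fun φ _ hφ =>
      isCover_push φ (fun P hP => PrimeSpectrum.ext (le_antisymm (le_maximalIdeal P.isPrime.ne_top) (by
        show maximalIdeal _ ≤ _
        rw [← IsLocalRing.map_maximalIdeal_of_surjective φ hφ]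
        exact Ideal.map_le_iff_le_comap.2 hP))) (fun _ => rfl) hf
    have hTI := isCocycle_push (π I) (g := fun k => π I (f k)) (fun _ => rfl) hT
    have hcI := hsurjcover (π I) Ideal.Quotient.mk_surjective
    -- the next ideal
    have step : ∀ x ∈ maximalIdeal A, x ∉ I → ∀ (C : Type u) [CommRing C] (φ : R →+* C),
        Function.Surjective φ → RingHom.ker φ = Ideal.span {π I (algebraMap A B x)} →
        Triv (fun k => φ (π I (f k))) (push φ _ (fun _ => rfl) (push (π I) (fun k => π I (f k)) (fun _ => rfl) T)) := by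
      intro x hx hxI C _ φ hφ hker
      have hlt' : I < I ⊔ Ideal.span {x} := lt_of_le_of_ne le_sup_left fun e =>
        hxI (e ▸ le_sup_right (a := I) (Ideal.mem_span_singleton_self x))
      obtain ⟨a, ha, hu⟩ := ih _ hlt' (sup_le hI ((Ideal.span_singleton_le_iff_mem _).2 hx))
      have hk : RingHom.ker (φ.comp (π I)) = (I ⊔ Ideal.span {x}).map (algebraMap A B) := by
        rw [← RingHom.comap_ker, hker, ← Set.image_singleton, ← Ideal.map_span,
          Ideal.comap_map_of_surjective _ Ideal.Quotient.mk_surjective, ← RingHom.ker_eq_comap_bot, Ideal.mk_ker,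
          Ideal.map_sup, Ideal.map_span (algebraMap A B), Set.image_singleton, sup_comm]
      let e : B ⧸ (I ⊔ Ideal.span {x}).map (algebraMap A B) →+* C :=
        Ideal.Quotient.lift _ (φ.comp (π I)) fun b hb => RingHom.mem_ker.1 (hk.ge hb)
      refine ⟨pushF e (fun k => φ (π I (f k))) (f := fun k => π (I ⊔ Ideal.span {x}) (f k)) (fun _ => rfl) a, ?_,
        fun k => (hu k).map _⟩
      have h2 := isSect_push e (g := fun k => φ (π I (f k))) (fun _ => rfl) ha
      rwa [show push e (fun k => φ (π I (f k))) (fun _ => rfl)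
          (push (π (I ⊔ Ideal.span {x})) (fun k => π (I ⊔ Ideal.span {x}) (f k)) (fun _ => rfl) T) =
          push φ _ (fun _ => rfl) (push (π I) (fun k => π I (f k)) (fun _ => rfl) T) from
        funext fun k => funext fun l => (mv_mv _ _ _ _ _ _ _ _).trans
          ((mv_congr (show e.comp (π _) = φ.comp (π I) from RingHom.ext fun _ => rfl) _ _ _ _).trans
            (mv_mv _ _ _ _ _ _ _ _).symm)] at h2
    by_cases hreg : ∃ t ∈ maximalIdeal A, ∀ w, t * w ∈ I → w ∈ I
    · obtain ⟨t, ht, htI⟩ := hreg
      have htI' : t ∉ I := fun h => hlt.ne (le_antisymm hI fun w _ => htI w (I.mul_mem_right w h))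
      let t' : R := π I (algebraMap A B t)
      have ht' : t' ∈ maximalIdeal R := map_nonunit (π I) _ (map_nonunit (algebraMap A B) t ht)
      have hreg' : IsSMulRegular R t' := fun a b hab => by
        obtain ⟨a, rfl⟩ := Ideal.Quotient.mk_surjective a
        obtain ⟨b, rfl⟩ := Ideal.Quotient.mk_surjective b
        simp only [smul_eq_mul, t', π, ← map_mul] at hab
        rw [Ideal.Quotient.eq, ← mul_sub] at hab
        exact Ideal.Quotient.eq.2 (mem_colon_map I I t htI hab)
      haveI : IsAdicComplete (maximalIdeal R) R := CILib.isAdicComplete_quotient _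
      haveI : IsAdicComplete (Ideal.span {t'}) R :=
        S0546.result R _ (maximalIdeal R) ((Ideal.span_singleton_le_iff_mem _).2 ht') (IsNoetherian.noetherian _) R
      haveI : Nontrivial (R ⧸ Ideal.span {t'}) := Ideal.Quotient.nontrivial_iff.2 fun e =>
        (maximalIdeal.isMaximal R).ne_top (top_le_iff.1 (e ▸ (Ideal.span_singleton_le_iff_mem _).2 ht'))
      haveI : IsLocalRing (R ⧸ Ideal.span {t'}) := .of_surjective' (Ideal.Quotient.mk _) Ideal.Quotient.mk_surjective
      have hd4 : (4 : ℕ∞) ≤ LocCoh.depth R R := by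
        refine (depth_quotient_succ ht' hreg' 3).1 ?_
        let J := I ⊔ Ideal.span {t}
        have hJ : J ≤ maximalIdeal A := sup_le hI ((Ideal.span_singleton_le_iff_mem _).2 ht)
        haveI : Nontrivial (B ⧸ J.map (algebraMap A B)) := Ideal.Quotient.nontrivial_iff.2 (map_ne_top hJ)
        haveI : IsLocalRing (B ⧸ J.map (algebraMap A B)) := .of_surjective' (π J) Ideal.Quotient.mk_surjective
        let φ : B ⧸ J.map (algebraMap A B) ≃+* R ⧸ Ideal.span {t'} :=
          ((Ideal.quotEquivOfEq (show J.map (algebraMap A B) = I.map (algebraMap A B) ⊔ Ideal.span {algebraMap A B t} by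
            rw [Ideal.map_sup, Ideal.map_span, Set.image_singleton])).trans
            (DoubleQuot.quotQuotEquivQuotSup _ _).symm).trans
            (Ideal.quotEquivOfEq (by rw [Ideal.map_span, Set.image_singleton]))
        exact (le_depth_quotient J hJ hd).trans_eq (RamSam24.depth_eq_of_ringEquiv φ)
      exact triv_of_quotient ht' hreg' hd4 (two_le_depth_atPrime (le_trans (by norm_num) hd4)) hcI hTI
        (step t ht htI' _ (πn t' 0) Ideal.Quotient.mk_surjective (by rw [Ideal.mk_ker, zero_add, pow_one]))
    · obtain ⟨x, hxI, hmx⟩ : ∃ x, x ∉ I ∧ ∀ m ∈ maximalIdeal A, x * m ∈ I := by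
        haveI : Nontrivial (A ⧸ I) := Ideal.Quotient.nontrivial_iff.2 fun e =>
          (maximalIdeal.isMaximal A).ne_top (top_le_iff.1 (e ▸ hI))
        by_contra hne
        simp only [not_exists, not_and, not_forall] at hne
        obtain ⟨t, ht, hreg'⟩ := (Alg6.exists_isSMulRegular_mem_iff (M := A ⧸ I) (maximalIdeal A)).mpr fun p hp hle => by
          have := (maximalIdeal.isMaximal A).eq_of_le (IsAssociatedPrime.isPrime hp).ne_top hle
          obtain ⟨-, z, hz⟩ := Alg6.mem_ass_iff.1 (this ▸ hp)
          obtain ⟨z, rfl⟩ := Ideal.Quotient.mk_surjective z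
          by_cases hzI : z ∈ I
          · exact (maximalIdeal.isMaximal A).ne_top ((Ideal.eq_top_iff_one _).2 ((hz 1).2 (by
              rw [one_smul]; exact Ideal.Quotient.eq_zero_iff_mem.2 hzI)))
          · obtain ⟨m, hm, hzm⟩ := hne z hzI
            have h0 := (hz m).1 hm
            rw [Algebra.smul_def, Ideal.Quotient.algebraMap_eq, ← map_mul, Ideal.Quotient.eq_zero_iff_mem, mul_comm] at h0
            exact hzm h0
        refine hreg ⟨t, ht, fun w hw => Ideal.Quotient.eq_zero_iff_mem.1 (hreg' ?_)⟩
        show t • Ideal.Quotient.mk I w = t • (0 : A ⧸ I)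
        rw [smul_zero, Algebra.smul_def, Ideal.Quotient.algebraMap_eq, ← map_mul, Ideal.Quotient.eq_zero_iff_mem]
        exact hw
      have hxm : x ∈ maximalIdeal A := by
        by_contra hu
        obtain ⟨u, rfl⟩ := notMem_maximalIdeal.1 hu
        exact hlt.ne (le_antisymm hI fun m hm => by
          simpa [← mul_assoc] using I.mul_mem_left (↑u⁻¹) (hmx m hm))
      let ε : R := π I (algebraMap A B x)
      let ψ : R →+* B ⧸ (maximalIdeal A).map (algebraMap A B) := Ideal.Quotient.factor (Ideal.map_mono hI)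
      have hψε : ψ ε = 0 := Ideal.Quotient.eq_zero_iff_mem.2 (Ideal.mem_map_of_mem _ hxm)
      have hann : ∀ r, ε * r = 0 ↔ ψ r = 0 := fun r => by
        obtain ⟨b, rfl⟩ := Ideal.Quotient.mk_surjective r
        simp only [ε, ψ, π]
        rw [← map_mul, Ideal.Quotient.factor_mk, Ideal.Quotient.eq_zero_iff_mem, Ideal.Quotient.eq_zero_iff_mem]
        refine ⟨fun h => mem_colon_map I _ x (fun w hw => ?_) h, fun h => ?_⟩
        · by_contra hu
          exact hxI ((Ideal.unit_mul_mem_iff_mem I (notMem_maximalIdeal.1 hu)).1 (by rwa [mul_comm]))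
        · have hle : (maximalIdeal A).map (algebraMap A B) ≤
              (I.map (algebraMap A B)).colon {algebraMap A B x} := Ideal.map_le_iff_le_comap.2 fun m hm => by
            rw [Ideal.mem_comap, Submodule.mem_colon_singleton, smul_eq_mul, ← map_mul, mul_comm]
            exact Ideal.mem_map_of_mem _ (hmx m hm)
          have := Submodule.mem_colon_singleton.1 (hle h)
          rwa [smul_eq_mul, mul_comm] at this
      obtain ⟨a₀, ha₀, hu₀⟩ := step x hxm hxI _ (Ideal.Quotient.mk (Ideal.span {ε})) Ideal.Quotient.mk_surjective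
        Ideal.mk_ker
      obtain ⟨a, ha, hu, -⟩ := exists_lift (Ideal.Quotient.mk (Ideal.span {ε})) Ideal.Quotient.mk_surjective ψ
        (Ideal.Quotient.factor_surjective _) ε Ideal.mk_ker hann hψε hd
        (f₀ := fun k => Ideal.Quotient.mk ((maximalIdeal A).map (algebraMap A B)) (f k)) (fun _ => rfl) (fun _ => rfl)
        (hsurjcover _ Ideal.Quotient.mk_surjective) hTI ha₀ hu₀
      exact ⟨a, ha, hu⟩

end Groth.Agent.PicU24
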