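import Groth.Agent.PicU24.Main
import Groth.Agent.SGA10.GrFree

/-!
# Cocycles on the punctured spectrum of a ring with a normally flat ideal
-/

set_option autoImplicit false
set_option linter.style.haveILetI false
universe u

open IsLocalRing

namespace Groth.Agent.PicU24

variable {B : Type u} [CommRing B] {K : Type u}

theorem factor_comp_mk {I I' : Ideal B} (h : I ≤ I') :
    (Ideal.Quotient.factor h).comp (Ideal.Quotient.mk I) = Ideal.Quotient.mk I' := RingHom.ext fun _ => rfl

theorem factor_comp_factor {I I' I'' : Ideal B} (h : I ≤ I') (h' : I' ≤ I'') :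
    (Ideal.Quotient.factor h').comp (Ideal.Quotient.factor h) = Ideal.Quotient.factor (h.trans h') :=
  Ideal.Quotient.ringHom_ext (RingHom.ext fun _ => rfl)

/-- The images of a family in a quotient. -/
abbrev fq (I : Ideal B) (f : K → B) : K → B ⧸ I := fun k => Ideal.Quotient.mk I (f k)

/-- A cocycle pushed to a quotient. -/
noncomputable abbrev Tq (I : Ideal B) (f : K → B) (T : ∀ k l, Ov (f k * f l)) :
    ∀ k l, Ov (fq I f k * fq I f l) := push (Ideal.Quotient.mk I) (fq I f) (fun _ => rfl) T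

/-- Reduction between quotients. -/
noncomputable abbrev red {I I' : Ideal B} (h : I ≤ I') (f : K → B) (a : ∀ k, Ov (fq I f k)) : ∀ k, Ov (fq I' f k) :=
  pushF (Ideal.Quotient.factor h) (fq I' f) (fun _ => rfl) a

theorem push_factor {I I' : Ideal B} (h : I ≤ I') (f : K → B) (T : ∀ k l, Ov (f k * f l)) :
    push (Ideal.Quotient.factor h) (fq I' f) (fun _ => rfl) (Tq I f T) = Tq I' f T :=
  funext fun k => funext fun l => (mv_mv _ _ _ _ _ _ _ _).trans (mv_congr (factor_comp_mk h) _ _ _ _)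

theorem red_red {I I' I'' : Ideal B} (h : I ≤ I') (h' : I' ≤ I'') (f : K → B) (a : ∀ k, Ov (fq I f k)) :
    red h' f (red h f a) = red (h.trans h') f a :=
  funext fun k => (mv_mv _ _ _ _ _ _ _ _).trans (mv_congr (factor_comp_factor h h') _ _ _ _)

theorem red_mk {I I' : Ideal B} (h : I ≤ I') (f : K → B) (a : ∀ k, Ov (f k)) :
    red h f (pushF (Ideal.Quotient.mk I) (fq I f) (fun _ => rfl) a) =
      pushF (Ideal.Quotient.mk I') (fq I' f) (fun _ => rfl) a :=
  funext fun k => (mv_mv _ _ _ _ _ _ _ _).trans (mv_congr (factor_comp_mk h) _ _ _ _)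

theorem isCover_fq [IsLocalRing B] (I : Ideal B) [IsLocalRing (B ⧸ I)] {f : K → B} (hf : IsCover f) :
    IsCover (fq I f) := isCover_of_surjective _ Ideal.Quotient.mk_surjective hf

/-- A trivialization lifts one step along a normally flat ideal whose quotient has depth three. -/
theorem exists_lift_gr [IsLocalRing B] [IsNoetherianRing B] [Fintype K] (J : Ideal B) [IsLocalRing (B ⧸ J)]
    (hd : (3 : ℕ∞) ≤ LocCoh.depth (B ⧸ J) (B ⧸ J)) {n : ℕ} (hn : n ≠ 0)
    [Module.Free (B ⧸ J) (↥(J ^ n) ⧸ (J • (⊤ : Submodule B ↥(J ^ n))))]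
    {f : K → B} (hf : IsCover f) {T : ∀ k l, Ov (f k * f l)} (hT : IsCocycle f T)
    {a : ∀ k, Ov (fq (J ^ n) f k)} (ha : IsSect (fq (J ^ n) f) (Tq (J ^ n) f T) a) (hu : ∀ k, IsUnit (a k)) :
    ∃ a' : ∀ k, Ov (fq (J ^ (n + 1)) f k), IsSect (fq (J ^ (n + 1)) f) (Tq (J ^ (n + 1)) f T) a' ∧
      (∀ k, IsUnit (a' k)) ∧ red (Ideal.pow_le_pow_right n.le_succ) f a' = a := by
  classical
  let Q := ↥(J ^ n) ⧸ (J • (⊤ : Submodule B ↥(J ^ n)))
  haveI : Module.Finite (B ⧸ J) Q := Module.Finite.of_restrictScalars_finite B (B ⧸ J) Q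
  let b := Module.Free.chooseBasis (B ⧸ J) Q
  let ι := Module.Free.ChooseBasisIndex (B ⧸ J) Q
  choose x hx using fun i : ι => Submodule.Quotient.mk_surjective (J • (⊤ : Submodule B ↥(J ^ n))) (b i)
  have hmap : (J • (⊤ : Submodule B ↥(J ^ n))).map (J ^ n).subtype = J ^ (n + 1) := by
    rw [Submodule.map_smul'', Submodule.map_top, Submodule.range_subtype, smul_eq_mul, pow_succ']
  have hzero : ∀ y : ↥(J ^ n), (Submodule.Quotient.mk y : Q) = 0 ↔ (y : B) ∈ J ^ (n + 1) := fun y => by
    rw [Submodule.Quotient.mk_eq_zero, ← hmap]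
    exact ⟨fun h => Submodule.mem_map_of_mem h, fun ⟨z, hz, hzy⟩ => Subtype.ext hzy ▸ hz⟩
  let S : Finset ι → Ideal B := fun s => J ^ (n + 1) ⊔ Ideal.span ((fun i => (x i : B)) '' {j | j ∉ s})
  have hSle : ∀ s, S s ≤ J ^ n := fun s =>
    sup_le (Ideal.pow_le_pow_right n.le_succ) (Ideal.span_le.2 (by rintro _ ⟨i, -, rfl⟩; exact (x i).2))
  have hSJ : ∀ s, S s ≤ J := fun s => (hSle s).trans (Ideal.pow_le_self hn)
  have key : ∀ s, ∃ a' : ∀ k, Ov (fq (S s) f k), IsSect (fq (S s) f) (Tq (S s) f T) a' ∧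
      (∀ k, IsUnit (a' k)) ∧ red (hSle s) f a' = a := by
    intro s
    induction s using Finset.induction_on with
    | empty =>
      have hle : J ^ n ≤ S ∅ := fun y hy => by
        obtain ⟨c, hc⟩ : ∃ c : ι → B, (⟨y, hy⟩ : ↥(J ^ n)) - ∑ i, c i • x i ∈ J • (⊤ : Submodule B ↥(J ^ n)) := by
          choose c hc using fun i => Ideal.Quotient.mk_surjective (b.repr (Submodule.Quotient.mk ⟨y, hy⟩) i)
          refine ⟨c, (Submodule.Quotient.mk_eq_zero _).1 ?_⟩
          rw [Submodule.Quotient.mk_sub, ← Submodule.mkQ_apply, ← Submodule.mkQ_apply, map_sum, sub_eq_zero]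
          refine (b.sum_repr _).symm.trans (Finset.sum_congr rfl fun i _ => ?_)
          simp only [map_smul, Submodule.mkQ_apply, hx, ← hc]
          rfl
        have h1 : y - ∑ i, c i * (x i : B) ∈ J ^ (n + 1) := by
          have := Submodule.mem_map_of_mem (f := (J ^ n).subtype) hc
          rw [hmap, map_sub, map_sum] at this
          exact this
        rw [← sub_add_cancel y (∑ i, c i * (x i : B))]
        exact add_mem (Submodule.mem_sup_left h1) (Submodule.mem_sup_right (Submodule.sum_mem _ fun i _ =>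
          Ideal.mul_mem_left _ _ (Ideal.subset_span ⟨i, by simp, rfl⟩)))
      refine ⟨red hle f a, ?_, fun k => (hu k).map _, ?_⟩
      · rw [← push_factor hle f T]
        exact isSect_push _ _ ha
      · rw [red_red]
        exact funext fun k => (mv_congr (show Ideal.Quotient.factor (hle.trans (hSle ∅)) = RingHom.id _ from
          Ideal.Quotient.ringHom_ext (RingHom.ext fun _ => rfl)) _ _ _ _).trans (mv_id _ _ _)
    | insert i s his ih =>
      obtain ⟨a₁, ha₁, hu₁, hred⟩ := ih
      have hSi : S s = S (insert i s) ⊔ Ideal.span {(x i : B)} := by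
        simp only [S]
        rw [sup_assoc, ← Ideal.span_union]
        congr 2
        ext z
        simp only [Set.mem_image, Set.mem_setOf_eq, Set.mem_union, Set.mem_singleton_iff, Finset.mem_insert, not_or]
        constructor
        · rintro ⟨j, hj, rfl⟩
          rcases eq_or_ne j i with rfl | hji
          · exact Or.inr rfl
          · exact Or.inl ⟨j, ⟨hji, hj⟩, rfl⟩
        · rintro (⟨j, ⟨-, hj⟩, rfl⟩ | rfl)
          · exact ⟨j, hj, rfl⟩
          · exact ⟨i, his, rfl⟩
      have hle : S (insert i s) ≤ S s := hSi ▸ le_sup_left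
      have hcoord : ∀ y : B, (x i : B) * y ∈ S (insert i s) → y ∈ J := fun y hy => by
        obtain ⟨u, hu', v, hv, huv⟩ := Submodule.mem_sup.1 hy
        obtain ⟨c, hc, hcv⟩ := (Finsupp.mem_span_image_iff_linearCombination B).1 hv
        have h1 : (Submodule.Quotient.mk (y • x i - c.sum fun j r => r • x j) : Q) = 0 := by
          refine (hzero _).2 ?_
          rw [Finsupp.sum, Submodule.coe_sub, Submodule.coe_smul, Submodule.coe_sum, smul_eq_mul, mul_comm, ← huv, ← hcv,
            Finsupp.linearCombination_apply, Finsupp.sum]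
          simpa using hu'
        rw [Submodule.Quotient.mk_sub, Finsupp.sum, ← Submodule.mkQ_apply, ← Submodule.mkQ_apply, map_sum] at h1
        simp only [map_smul, Submodule.mkQ_apply, hx, sub_eq_zero] at h1
        have h2 := congrArg (fun q => b.repr q i) h1
        have hmk : ∀ (r : B) (q : Q), r • q = (Ideal.Quotient.mk J r) • q := fun _ _ => rfl
        simp only [hmk, map_smul, map_sum, Module.Basis.repr_self, Finsupp.smul_apply, Finsupp.finset_sum_apply,
          Finsupp.single_eq_same, smul_eq_mul, mul_one] at h2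
        refine Ideal.Quotient.eq_zero_iff_mem.1 (h2.trans (Finset.sum_eq_zero fun j hj => ?_))
        have hji : j ≠ i := fun e => by
          have : j ∉ insert i s := hc hj
          exact this (e ▸ Finset.mem_insert_self i s)
        rw [Finsupp.single_eq_of_ne' hji, mul_zero]
      obtain ⟨a', h1, h2, h3⟩ := exists_lift (Ideal.Quotient.factor hle) (Ideal.Quotient.factor_surjective _)
        (Ideal.Quotient.factor (hSJ (insert i s))) (Ideal.Quotient.factor_surjective _)
        (Ideal.Quotient.mk (S (insert i s)) (x i : B)) (by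
          rw [Ideal.Quotient.factor_ker, hSi, Ideal.map_sup, Ideal.map_quotient_self, bot_sup_eq, Ideal.map_span,
            Set.image_singleton])
        (fun z => by
          obtain ⟨z, rfl⟩ := Ideal.Quotient.mk_surjective z
          rw [← map_mul, Ideal.Quotient.eq_zero_iff_mem, Ideal.Quotient.factor_mk, Ideal.Quotient.eq_zero_iff_mem]
          refine ⟨hcoord z, fun hz => Submodule.mem_sup_left ?_⟩
          rw [pow_succ]
          exact Ideal.mul_mem_mul (x i).2 hz)
        (by rw [Ideal.Quotient.factor_mk, Ideal.Quotient.eq_zero_iff_mem]; exact Ideal.pow_le_self hn (x i).2)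
        hd (g := fq (S s) f) (f₀ := fq J f) (fun _ => rfl) (fun _ => rfl) (isCover_fq J hf)
        (isCocycle_push _ _ hT) ((push_factor hle f T).symm ▸ ha₁) hu₁
      refine ⟨a', h1, h2, ?_⟩
      rw [← hred, ← h3]
      exact (red_red _ _ _ _).symm
  have hle : S Finset.univ ≤ J ^ (n + 1) :=
    sup_le le_rfl (Ideal.span_le.2 (by rintro _ ⟨i, hi, rfl⟩; exact absurd (Finset.mem_univ i) hi))
  obtain ⟨a', h1, h2, h3⟩ := key Finset.univ
  refine ⟨red hle f a', ?_, fun k => (h2 k).map _, ?_⟩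
  · rw [← push_factor hle f T]
    exact isSect_push _ _ h1
  · rw [red_red]
    exact h3

/-- The inverse cocycle. -/
noncomputable def invT (f : K → B) (T : ∀ k l, Ov (f k * f l)) : ∀ k l, Ov (f k * f l) :=
  fun k l => Ring.inverse (T k l)

theorem mul_invT {f : K → B} {T : ∀ k l, Ov (f k * f l)} (hT : IsCocycle f T) (k l : K) :
    T k l * invT f T k l = 1 := Ring.mul_inverse_cancel _ (hT.unit k l)

theorem map_inverse {R S : Type u} [CommRing R] [CommRing S] (φ : R →+* S) {x : R} (hx : IsUnit x) :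
    φ (Ring.inverse x) = Ring.inverse (φ x) :=
  (hx.map φ).mul_left_cancel (by
    rw [← map_mul, Ring.mul_inverse_cancel _ hx, map_one, Ring.mul_inverse_cancel _ (hx.map φ)])

theorem isCocycle_invT {f : K → B} {T : ∀ k l, Ov (f k * f l)} (hT : IsCocycle f T) : IsCocycle f (invT f T) := by
  refine ⟨fun k l => IsUnit.ringInverse (hT.unit k l), fun k l m => ?_⟩
  simp only [invT]
  rw [map_inverse _ (hT.unit k l), map_inverse _ (hT.unit l m), map_inverse _ (hT.unit k m), ← hT.trans k l m,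
    Ring.mul_inverse_rev]
  exact mul_comm _ _

theorem isSect_mul {f : K → B} {T : ∀ k l, Ov (f k * f l)} (hT : IsCocycle f T) {a s : ∀ k, Ov (f k)}
    (ha : IsSect f T a) (hs : IsSect f (invT f T) s) (k l : K) :
    r₂ f k l (a l * s l) = r₁ f k l (a k * s k) := by
  rw [map_mul, map_mul, ha k l, hs k l]
  linear_combination r₁ f k l (a k) * r₁ f k l (s k) * mul_invT hT k l

theorem push_invT {C : Type u} [CommRing C] (φ : B →+* C) {f : K → B} {g : K → C} (hg : ∀ k, φ (f k) = g k)
    {T : ∀ k l, Ov (f k * f l)} (hT : IsCocycle f T) : push φ g hg (invT f T) = invT g (push φ g hg T) :=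
  funext fun k => funext fun l => map_inverse _ (hT.unit k l)

/-- Over a complete ring, compatible trivializations of the levels come from a section. -/
theorem exists_formal_sect [IsLocalRing B] [IsNoetherianRing B] [Fintype K] (J : Ideal B) [IsAdicComplete J B]
    [hloc : ∀ n, IsLocalRing (B ⧸ J ^ (n + 1))] (hd : (2 : ℕ∞) ≤ LocCoh.depth B B)
    (hdn : ∀ n, (2 : ℕ∞) ≤ LocCoh.depth (B ⧸ J ^ (n + 1)) (B ⧸ J ^ (n + 1)))
    {f : K → B} (hf : IsCover f) {T : ∀ k l, Ov (f k * f l)} (hT : IsCocycle f T)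
    (a : ∀ n k, Ov (fq (J ^ (n + 1)) f k)) (ha : ∀ n, IsSect (fq (J ^ (n + 1)) f) (Tq (J ^ (n + 1)) f T) (a n))
    (hcompat : ∀ n, red (Ideal.pow_le_pow_right (n + 1).le_succ) f (a (n + 1)) = a n) :
    ∃ A : ∀ k, Ov (f k), IsSect f T A ∧
      ∀ n, pushF (Ideal.Quotient.mk (J ^ (n + 1))) (fq (J ^ (n + 1)) f) (fun _ => rfl) A = a n := by
  classical
  have hcn := fun n => isCover_fq (J ^ (n + 1)) hf
  have hd1 := fun n => le_trans (by norm_num : (1 : ℕ∞) ≤ 2) (hdn n)
  let P := fun (n : ℕ) (k : K) => mv (Ideal.Quotient.mk (J ^ (n + 1))) (f k) (fq (J ^ (n + 1)) f k) dvd_rfl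
  have hPρ : ∀ n k x, mv (Ideal.Quotient.factor (Ideal.pow_le_pow_right (n + 1).le_succ : J ^ (n + 1 + 1) ≤ J ^ (n + 1)))
      (fq (J ^ (n + 1 + 1)) f k) (fq (J ^ (n + 1)) f k) dvd_rfl (P (n + 1) k x) = P n k x := fun n k x =>
    (mv_mv _ _ _ _ _ _ _ _).trans (mv_congr (factor_comp_mk _) _ _ _ _)
  have hhaus : ∀ c : B, (∀ n, c ∈ J ^ (n + 1)) → c = 0 := fun c hc =>
    IsHausdorff.haus (inferInstance : IsHausdorff J B) c fun n => by
      rw [SModEq.zero, smul_eq_mul, Ideal.mul_top]
      exact Ideal.pow_le_pow_right n.le_succ (hc n)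
  -- the pairing with a dual section
  have pair : ∀ s, IsSect f (invT f T) s →
      ∃ b : B, ∀ n k, P n k (s k) * a n k = algebraMap _ _ (Ideal.Quotient.mk (J ^ (n + 1)) b) := by
    intro s hs
    have hsn : ∀ n, IsSect (fq (J ^ (n + 1)) f) (invT (fq (J ^ (n + 1)) f) (Tq (J ^ (n + 1)) f T))
        (fun k => P n k (s k)) := fun n => by
      have h := isSect_push (Ideal.Quotient.mk (J ^ (n + 1))) (g := fq (J ^ (n + 1)) f) (fun _ => rfl) hs
      rw [push_invT _ _ hT] at h
      exact h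
    have hglue : ∀ n, ∃ q : B ⧸ J ^ (n + 1), ∀ k, algebraMap _ (Ov (fq (J ^ (n + 1)) f k)) q = a n k * P n k (s k) :=
      fun n => exists_glue (hdn n) (hcn n) (fun k => a n k * P n k (s k))
        (fun k l => isSect_mul (isCocycle_push (Ideal.Quotient.mk (J ^ (n + 1))) (fun _ => rfl) hT) (ha n) (hsn n) k l)
    choose q hq using hglue
    choose x hx using fun n => Ideal.Quotient.mk_surjective (q n)
    have hsucc : ∀ n, x (n + 1) - x n ∈ J ^ (n + 1) := fun n => by
      refine Ideal.Quotient.eq.1 (eq_of_forall_algebraMap_eq (hd1 n) (hcn n) fun k => ?_)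
      have h1 := congrArg (mv (Ideal.Quotient.factor (Ideal.pow_le_pow_right (n + 1).le_succ : J ^ (n + 1 + 1) ≤ J ^ (n + 1)))
        (fq (J ^ (n + 1 + 1)) f k) (fq (J ^ (n + 1)) f k) dvd_rfl) (hq (n + 1) k)
      rw [mv_algebraMap, map_mul, hPρ, ← hx (n + 1), Ideal.Quotient.factor_mk] at h1
      rw [h1, hx n, hq n k, ← hcompat n]
      rfl
    have hmn : ∀ {i j}, i ≤ j → x j - x i ∈ J ^ (i + 1) := by
      intro i j hij
      induction j, hij using Nat.le_induction with
      | base => rw [sub_self]; exact zero_mem _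
      | succ j hij ih =>
        rw [← sub_add_sub_cancel (x (j + 1)) (x j) (x i)]
        exact add_mem (Ideal.pow_le_pow_right (by omega) (hsucc j)) ih
    obtain ⟨L, hL⟩ := IsPrecomplete.prec (I := J) inferInstance (f := x) fun {i j} hij => by
      rw [SModEq.sub_mem, smul_eq_mul, Ideal.mul_top, ← neg_sub]
      exact neg_mem (Ideal.pow_le_pow_right i.le_succ (hmn hij))
    refine ⟨L, fun n k => ?_⟩
    have h1 : Ideal.Quotient.mk (J ^ (n + 1)) L = q n := by
      rw [← hx n, Ideal.Quotient.eq]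
      have h2 := hL (n + 1)
      rw [SModEq.sub_mem, smul_eq_mul, Ideal.mul_top] at h2
      rw [show L - x n = (x (n + 1) - x n) - (x (n + 1) - L) by ring]
      exact sub_mem (hsucc n) h2
    rw [h1, hq n k, mul_comm]
  -- dual sections vanishing at every level vanish
  have vanish : ∀ z, IsSect f (invT f T) z → (∀ n k, P n k (z k) = 0) → ∀ k, z k = 0 := by
    intro z hz hz0 k
    obtain ⟨e, he, heu⟩ := exists_sect hT k
    obtain ⟨c, hc⟩ := exists_glue hd hf (fun k => e k * z k) fun k l => isSect_mul hT he hz k l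
    have hc0 : c = 0 := hhaus c fun n => Ideal.Quotient.eq_zero_iff_mem.1
      (eq_of_forall_algebraMap_eq (hd1 n) (hcn n) fun l => by
        have := congrArg (P n l) (hc l)
        rw [map_mul, hz0 n l, mul_zero] at this
        rw [map_zero]
        exact (mv_algebraMap _ _ _ _ _).symm.trans this)
    have := hc k
    rw [hc0, map_zero] at this
    exact heu.mul_right_eq_zero.1 this.symm
  choose s hs hsu using fun k => exists_sect (isCocycle_invT hT) k
  choose b hb using fun k => pair (s k) (hs k)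
  refine ⟨fun k => algebraMap B (Ov (f k)) (b k) * Ring.inverse (s k k), fun k l => ?_, fun n => funext fun k => ?_⟩
  · let z : ∀ m, Ov (f m) := fun m => algebraMap B _ (b l) * s k m + algebraMap B _ (-b k) * s l m
    have hzs : IsSect f (invT f T) z := isSect_add (isSect_smul (hs k) _) (isSect_smul (hs l) _)
    have hz0 := vanish z hzs fun n m => by
      obtain hbk := hb k n m
      obtain hbl := hb l n m
      simp only [P, z, map_add, map_mul, mv_algebraMap, map_neg] at hbk hbl ⊢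
      rw [← hbk, ← hbl]
      ring
    have h1 := congrArg (r₁ f k l) (hz0 k)
    have h2 := hs l k l
    have h3 := Ring.mul_inverse_cancel _ (hsu k)
    have h4 := Ring.mul_inverse_cancel _ (hsu l)
    have h3' := congrArg (r₁ f k l) h3
    have h4' := congrArg (r₂ f k l) h4
    have h5 := mul_invT hT k l
    simp only [z, map_add, map_mul, map_neg, map_one, map_zero, r₁, r₂, res_algebraMap] at h1 h2 h3' h4' ⊢
    refine (((hsu k).map (r₁ f k l)).mul ((hsu l).map (r₂ f k l))).mul_right_inj.1 ?_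
    simp only [r₁, r₂]
    linear_combination (algebraMap B (Ov (f k * f l)) (b l) * res (f k) (f k * f l) (dvd_mul_right _ _) (s k k)) * h4' -
      (algebraMap B (Ov (f k * f l)) (b k) * res (f l) (f k * f l) (dvd_mul_left _ _) (s l l) * T k l) * h3' +
      h1 - algebraMap B (Ov (f k * f l)) (b k) * T k l * h2 -
      algebraMap B (Ov (f k * f l)) (b k) * res (f k) (f k * f l) (dvd_mul_right _ _) (s l k) * h5
  · show P n k _ = _
    rw [map_mul, mv_algebraMap, ← hb k n k, mul_assoc, mul_comm (a n k), ← mul_assoc, ← map_mul,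
      Ring.mul_inverse_cancel _ (hsu k), map_one, one_mul]

/-- Over a complete ring, a cocycle trivial at every level, compatibly, is trivial. -/
theorem triv_of_levels [IsLocalRing B] [IsNoetherianRing B] [Fintype K] (J : Ideal B) [IsAdicComplete J B]
    [hloc : ∀ n, IsLocalRing (B ⧸ J ^ (n + 1))] (hd : (2 : ℕ∞) ≤ LocCoh.depth B B)
    (hdn : ∀ n, (2 : ℕ∞) ≤ LocCoh.depth (B ⧸ J ^ (n + 1)) (B ⧸ J ^ (n + 1)))
    {f : K → B} (hf : IsCover f) {T : ∀ k l, Ov (f k * f l)} (hT : IsCocycle f T)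
    (a : ∀ n k, Ov (fq (J ^ (n + 1)) f k)) (ha : ∀ n, IsSect (fq (J ^ (n + 1)) f) (Tq (J ^ (n + 1)) f T) (a n))
    (hu : ∀ n k, IsUnit (a n k))
    (hcompat : ∀ n, red (Ideal.pow_le_pow_right (n + 1).le_succ) f (a (n + 1)) = a n) : Triv f T := by
  obtain ⟨A, hA, hAn⟩ := exists_formal_sect J hd hdn hf hT a ha hcompat
  obtain ⟨A', hA', hA'n⟩ := exists_formal_sect J hd hdn hf (isCocycle_invT hT) (fun n k => Ring.inverse (a n k))
    (fun n k l => by
      show _ = _ * push (Ideal.Quotient.mk (J ^ (n + 1))) _ (fun _ => rfl) (invT f T) k l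
      rw [push_invT _ _ hT, map_inverse _ (hu n l), map_inverse _ (hu n k), ha n k l, Ring.mul_inverse_rev]
      exact mul_comm _ _)
    (fun n => funext fun k => by
      show mv _ _ _ _ (Ring.inverse (a (n + 1) k)) = Ring.inverse (a n k)
      rw [map_inverse _ (hu _ k), ← hcompat n]
      rfl)
  obtain ⟨c, hc⟩ := exists_glue hd hf (fun k => A k * A' k) fun k l => isSect_mul hT hA hA' k l
  have hc1 : c - 1 = 0 := IsHausdorff.haus (inferInstance : IsHausdorff J B) _ fun n => by
    rw [SModEq.zero, smul_eq_mul, Ideal.mul_top]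
    refine Ideal.pow_le_pow_right n.le_succ (Ideal.Quotient.eq.1 (eq_of_forall_algebraMap_eq
      (le_trans (by norm_num) (hdn n)) (isCover_fq (J ^ (n + 1)) hf) fun k => ?_))
    have h1 := congrArg (mv (Ideal.Quotient.mk (J ^ (n + 1))) (f k) (fq (J ^ (n + 1)) f k) dvd_rfl) (hc k)
    rw [mv_algebraMap, map_mul] at h1
    rw [h1, map_one, map_one]
    refine Eq.trans ?_ (Ring.mul_inverse_cancel _ (hu n k))
    exact congrArg₂ (· * ·) (congrFun (hAn n) k) (congrFun (hA'n n) k)
  refine ⟨A, hA, fun k => IsUnit.of_mul_eq_one (A' k) ?_⟩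
  rw [← hc k, sub_eq_zero.1 hc1, map_one]

theorem depth_quot_eq_idealDepth [IsLocalRing B] [IsNoetherianRing B] (I : Ideal B) [IsLocalRing (B ⧸ I)] :
    LocCoh.idealDepth (maximalIdeal B) (B ⧸ I) = LocCoh.depth (B ⧸ I) (B ⧸ I) :=
  S7137.depth_eq_of_surjective (R := B) (S := B ⧸ I) Ideal.Quotient.mk_surjective (B ⧸ I)

theorem isLocalRing_quot_pow [IsLocalRing B] {J : Ideal B} (hJ : J ≠ ⊤) (n : ℕ) : IsLocalRing (B ⧸ J ^ (n + 1)) :=
  haveI : Nontrivial (B ⧸ J ^ (n + 1)) := Ideal.Quotient.nontrivial_iff.2 fun e =>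
    hJ (top_le_iff.1 (e.ge.trans (Ideal.pow_le_self n.succ_ne_zero)))
  .of_surjective' (Ideal.Quotient.mk _) Ideal.Quotient.mk_surjective

/-- Cocycles trivial on a normally flat closed subscheme of depth three are trivial. -/
theorem triv_of_gr_free [IsLocalRing B] [IsNoetherianRing B] [Fintype K] (J : Ideal B) (hJ : J ≠ ⊤) [IsLocalRing (B ⧸ J)]
    (hd : (3 : ℕ∞) ≤ LocCoh.depth (B ⧸ J) (B ⧸ J))
    (hgr : ∀ n : ℕ, Module.Free (B ⧸ J) (↥(J ^ n) ⧸ (J • (⊤ : Submodule B ↥(J ^ n)))))
    {f : K → B} (hf : IsCover f) {T : ∀ k l, Ov (f k * f l)} (hT : IsCocycle f T)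
    (h0 : Triv (fq J f) (Tq J f T)) : Triv f T := by
  classical
  obtain ⟨hdB, hdq⟩ := SGA10.depth_of_gr_free J hJ (c := 3) (by exact_mod_cast hd) hgr
  haveI hloc := isLocalRing_quot_pow hJ
  obtain ⟨a₀, ha₀, hu₀⟩ := h0
  have h1le : J ≤ J ^ (0 + 1) := by simp
  have step : ∀ n (a : ∀ k, Ov (fq (J ^ (n + 1)) f k)), IsSect _ (Tq (J ^ (n + 1)) f T) a → (∀ k, IsUnit (a k)) →
      ∃ a' : ∀ k, Ov (fq (J ^ (n + 1 + 1)) f k), IsSect _ (Tq (J ^ (n + 1 + 1)) f T) a' ∧ (∀ k, IsUnit (a' k)) ∧
        red (Ideal.pow_le_pow_right (n + 1).le_succ) f a' = a := fun n a ha hu =>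
    haveI := hgr (n + 1)
    exists_lift_gr J hd n.succ_ne_zero hf hT ha hu
  let seq : ∀ n, {a : ∀ k, Ov (fq (J ^ (n + 1)) f k) // IsSect _ (Tq (J ^ (n + 1)) f T) a ∧ ∀ k, IsUnit (a k)} := fun n =>
    Nat.rec ⟨red h1le f a₀, by rw [← push_factor h1le f T]; exact isSect_push _ _ ha₀, fun k => (hu₀ k).map _⟩
      (fun n a => ⟨(step n a.1 a.2.1 a.2.2).choose, (step n a.1 a.2.1 a.2.2).choose_spec.1,
        (step n a.1 a.2.1 a.2.2).choose_spec.2.1⟩) n
  have hseq : ∀ n, red (Ideal.pow_le_pow_right (n + 1).le_succ) f (seq (n + 1)).1 = (seq n).1 := fun n =>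
    (step n (seq n).1 (seq n).2.1 (seq n).2.2).choose_spec.2.2
  -- the completion
  let C := AdicCompletion (maximalIdeal B) B
  haveI : IsNoetherianRing C := LC.Canon.isNoetherianRing_completion (R := B)
  haveI : IsAdicComplete (maximalIdeal C) C := CILib.isAdicComplete_adicCompletion B
  haveI : IsLocalHom (algebraMap B C) := AdicCompletion.algebraMap_isLocalHom_of_fg (IsNoetherian.noetherian _)
  haveI : Module.Flat B C := AdicCompletion.flat_of_isNoetherian _
  haveI : Module.FaithfullyFlat B C := Module.FaithfullyFlat.of_flat_of_isLocalHom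
  let φ := algebraMap B C
  let J' := J.map φ
  have hJ'le : J' ≤ maximalIdeal C :=
    (Ideal.map_mono (le_maximalIdeal hJ)).trans (map_maximalIdeal_le _)
  have hJ' : J' ≠ ⊤ := fun e => (maximalIdeal.isMaximal C).ne_top (top_le_iff.1 (e ▸ hJ'le))
  haveI hlocC := isLocalRing_quot_pow hJ'
  haveI : IsAdicComplete J' C := S0546.result C J' (maximalIdeal C) hJ'le (IsNoetherian.noetherian _) C
  have hdC : (2 : ℕ∞) ≤ LocCoh.depth C C :=
    le_trans (le_trans (by norm_num) hdB) (RamSam24.depth_le_of_flat φ ‹Module.Flat B C› ‹IsLocalHom φ›)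
  have hq : ∀ n, ∃ q : B ⧸ J ^ (n + 1) →+* C ⧸ J' ^ (n + 1),
      q.comp (Ideal.Quotient.mk _) = (Ideal.Quotient.mk _).comp φ ∧
        LocCoh.depth (B ⧸ J ^ (n + 1)) (B ⧸ J ^ (n + 1)) ≤ LocCoh.depth (C ⧸ J' ^ (n + 1)) (C ⧸ J' ^ (n + 1)) :=
    fun n => exists_quotient_map (J ^ (n + 1)) (Ideal.map_pow φ J (n + 1)).symm
  choose q hqc hqd using hq
  have hdn : ∀ n, (2 : ℕ∞) ≤ LocCoh.depth (C ⧸ J' ^ (n + 1)) (C ⧸ J' ^ (n + 1)) := fun n => by
    refine le_trans ?_ (hqd n)
    rw [← depth_quot_eq_idealDepth]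
    exact le_trans (by norm_num) (hdq (n + 1))
  let g : K → C := fun k => φ (f k)
  have hg : IsCover g := isCover_push φ (fun P hP => PrimeSpectrum.ext
    (le_antisymm (le_maximalIdeal P.isPrime.ne_top) (by
      show maximalIdeal C ≤ _
      rw [(AdicCompletion.maximalIdeal_eq_map (R := B))]
      exact Ideal.map_le_iff_le_comap.2 hP))) (fun _ => rfl) hf
  have hqg : ∀ n k, q n (fq (J ^ (n + 1)) f k) = fq (J' ^ (n + 1)) g k := fun n k => RingHom.congr_fun (hqc n) (f k)
  refine triv_of_flat (C := C) hdC (g := g) (fun _ => rfl) hg ?_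
  refine triv_of_levels J' hdC hdn hg (isCocycle_push φ _ hT) (fun n => pushF (q n) _ (hqg n) (seq n).1)
    (fun n => ?_) (fun n k => ((seq n).2.2 k).map _) fun n => ?_
  · have h := isSect_push (q n) (hqg n) (seq n).2.1
    rw [show push (q n) (fq (J' ^ (n + 1)) g) (hqg n) (Tq (J ^ (n + 1)) f T) =
      Tq (J' ^ (n + 1)) g (push φ g (fun _ => rfl) T) from funext fun k => funext fun l =>
        (mv_mv _ _ _ _ _ _ _ _).trans ((mv_congr (hqc n) _ _ _ _).trans (mv_mv _ _ _ _ _ _ _ _).symm)] at h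
    exact h
  · rw [← hseq n]
    funext k
    exact (mv_mv _ _ _ _ _ _ _ _).trans ((mv_congr (Ideal.Quotient.ringHom_ext (by
      rw [RingHom.comp_assoc, hqc (n + 1), ← RingHom.comp_assoc, factor_comp_mk, RingHom.comp_assoc, factor_comp_mk,
        hqc n])) _ _ _ _).trans (mv_mv _ _ _ _ _ _ _ _).symm)

/-- The punctured spectrum has trivial Picard group when that of a normally flat subscheme of depth three does. -/
theorem picTrivial_of_gr_free [IsLocalRing B] [IsNoetherianRing B] (J : Ideal B) (hJ : J ≠ ⊤) [IsLocalRing (B ⧸ J)]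
    (hd : (3 : ℕ∞) ≤ LocCoh.depth (B ⧸ J) (B ⧸ J))
    (hgr : ∀ n : ℕ, Module.Free (B ⧸ J) (↥(J ^ n) ⧸ (J • (⊤ : Submodule B ↥(J ^ n)))))
    (h0 : ParaF.PicTrivial (FEt.puncturedSpec (B ⧸ J) : AlgebraicGeometry.Scheme.{u})) :
    ParaF.PicTrivial (FEt.puncturedSpec B : AlgebraicGeometry.Scheme.{u}) :=
  picTrivial_of_triv fun _ _ _ hf _ hT => triv_of_gr_free J hJ hd hgr hf hT
    (triv_of_picTrivial h0 (isCover_fq J hf) (isCocycle_push _ _ hT))

end Groth.Agent.PicU24
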